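import Cfsg.Agent.Blk.Val

/-!
# The complex group algebra: central elements, integral and small elements, the trace lemma
-/

set_option autoImplicit false
set_option linter.unusedSectionVars false

open scoped ComplexConjugate

open Cfsg CA.Chr

namespace CA.Blk

abbrev GA (G : Type*) := MonoidAlgebra ℂ G

variable {G : Type*} [Group G] [Fintype G]

noncomputable def mk (f : G → ℂ) : GA G := .ofCoeff (Finsupp.equivFunOnFinite.symm f)

@[simp] theorem coeff_mk (f : G → ℂ) (g : G) : (mk f).coeff g = f g := rfl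

theorem ext_coeff {a b : GA G} (h : ∀ g, a.coeff g = b.coeff g) : a = b :=
  MonoidAlgebra.coeff_injective (Finsupp.ext h)

theorem coeff_mul (a b : GA G) (g : G) : (a * b).coeff g = ∑ h, a.coeff h * b.coeff (h⁻¹ * g) := by
  rw [MonoidAlgebra.coeff_mul_apply_left, Finsupp.sum_fintype _ _ (by simp)]

theorem coeff_mul' (a b : GA G) (g : G) : (a * b).coeff g = ∑ h, a.coeff (g * h⁻¹) * b.coeff h := by
  rw [MonoidAlgebra.coeff_mul_apply_right, Finsupp.sum_fintype _ _ (by simp)]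

/-- the basis element of `g` -/
noncomputable abbrev dl (g : G) : GA G := MonoidAlgebra.single g 1

theorem coeff_one [DecidableEq G] (g : G) : (1 : GA G).coeff g = if g = 1 then 1 else 0 := by
  simp [MonoidAlgebra.one_def, Finsupp.single_apply, eq_comm]

noncomputable def ev (f : G → ℂ) : GA G →ₗ[ℂ] ℂ where
  toFun a := ∑ g, a.coeff g * f g
  map_add' a b := by simp [add_mul, Finset.sum_add_distrib]
  map_smul' c a := by simp [Finset.mul_sum, mul_assoc]

theorem ev_def (f : G → ℂ) (a : GA G) : ev f a = ∑ g, a.coeff g * f g := rfl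

theorem ev_mul (f : G → ℂ) (a b : GA G) :
    ev f (a * b) = ∑ g, a.coeff g * ∑ h, b.coeff h * f (g * h) := by
  simp only [ev_def, coeff_mul, Finset.sum_mul, Finset.mul_sum]
  rw [Finset.sum_comm]
  refine Finset.sum_congr rfl fun g _ => ?_
  rw [← Equiv.sum_comp (Equiv.mulLeft g)]
  simp [mul_assoc]

theorem ev_comm {f : G → ℂ} (hf : f ∈ CF G) (a b : GA G) : ev f (a * b) = ev f (b * a) := by
  simp only [ev_mul, Finset.mul_sum]
  rw [Finset.sum_comm]
  refine Finset.sum_congr rfl fun g _ => Finset.sum_congr rfl fun h _ => ?_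
  rw [CF_mul_comm hf]; ring

theorem ev_dl (f : G → ℂ) (g : G) : ev f (dl g) = f g := by
  classical
  simp [ev_def, Finsupp.single_apply]

theorem ev_one (f : G → ℂ) : ev f (1 : GA G) = f 1 := ev_dl f 1

theorem ev_dl_mul (f : G → ℂ) (g : G) (a : GA G) : ev f (dl g * a) = ∑ h, a.coeff h * f (g * h) := by
  classical
  simp [ev_mul, Finsupp.single_apply]

/-- central elements -/
def Cen (a : GA G) : Prop := ⇑a.coeff ∈ CF G

theorem Cen.comm {a : GA G} (ha : Cen a) (b : GA G) : a * b = b * a := by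
  refine ext_coeff fun g => ?_
  rw [coeff_mul', coeff_mul]
  refine Finset.sum_congr rfl fun h _ => ?_
  rw [CF_mul_comm ha, mul_comm]

theorem coeff_conj {a : GA G} {x : G} (h : Commute (dl x) a) (g : G) :
    a.coeff (x * g * x⁻¹) = a.coeff g := by
  have := congrArg (fun b : GA G => b.coeff (x * g)) h.eq
  simpa using this.symm

theorem commute_of_coeff {a : GA G} {x : G} (h : ∀ g, a.coeff (x * g * x⁻¹) = a.coeff g) :
    Commute (dl x) a := by
  refine ext_coeff fun g => ?_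
  have := h (x⁻¹ * g)
  simp only [mul_inv_cancel_left] at this
  simp [this]

theorem cen_of_comm {a : GA G} (h : ∀ x, Commute (dl x) a) : Cen a :=
  mem_CF.mpr fun g x => coeff_conj (h x) g

theorem Cen.mul {a b : GA G} (ha : Cen a) (hb : Cen b) : Cen (a * b) :=
  cen_of_comm fun _ => Commute.mul_right (ha.comm _).symm (hb.comm _).symm

theorem Cen.ext {a b : GA G} (ha : Cen a) (hb : Cen b)
    (h : ∀ χ, IsIrrCharacter G χ → ev χ a = ev χ b) : a = b := by
  have := CF_ext ha hb fun χ hχ => by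
    have := h _ (IsIrr.conjFun hχ)
    rw [dot_def, dot_def]
    exact congrArg _ this
  exact ext_coeff fun g => congrFun this g

theorem ev_mul_cen {χ : G → ℂ} (hχ : IsIrrCharacter G χ) (a : GA G) {c : GA G} (hc : Cen c) :
    χ 1 * ev χ (a * c) = ev χ a * ev χ c := by
  rw [ev_mul, Finset.mul_sum, ev_def χ a, Finset.sum_mul]
  refine Finset.sum_congr rfl fun g _ => ?_
  rw [mul_left_comm, IsIrr.sum_class_mul hχ hc g, mul_assoc, ev_def]

noncomputable def zzL : ((G → ℂ) → ℂ) →ₗ[ℂ] GA G where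
  toFun w := mk fun g => (Nat.card G : ℂ)⁻¹ * ∑ χ ∈ irr G, w χ * χ 1 * χ g⁻¹
  map_add' a b := ext_coeff fun g => by simp [add_mul, Finset.sum_add_distrib, mul_add]
  map_smul' c a := ext_coeff fun g => by
    simp [Finset.mul_sum, mul_assoc, mul_left_comm]

theorem coeff_zzL (w : (G → ℂ) → ℂ) (g : G) :
    (zzL w).coeff g = (Nat.card G : ℂ)⁻¹ * ∑ χ ∈ irr G, w χ * χ 1 * χ g⁻¹ := rfl

theorem cen_zzL (w : (G → ℂ) → ℂ) : Cen (zzL w) := mem_CF.mpr fun g x => by
  simp only [coeff_zzL]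
  congr 1
  refine Finset.sum_congr rfl fun χ hχ => ?_
  rw [← CF_conj (IsIrr.mem_CF (mem_irr.mp hχ)) g⁻¹ x]
  simp [mul_assoc]

theorem ev_zzL {χ : G → ℂ} (hχ : IsIrrCharacter G χ) (w : (G → ℂ) → ℂ) :
    ev χ (zzL w) = w χ * χ 1 := by
  have : ev χ (zzL w) = ∑ ψ ∈ irr G, w ψ * ψ 1 * ⟪χ, ψ⟫ := by
    simp only [ev_def, coeff_zzL, Finset.mul_sum, Finset.sum_mul]
    rw [Finset.sum_comm]
    refine Finset.sum_congr rfl fun ψ hψ => ?_
    rw [IsChar.dot_eq_inv (IsIrr.isChar (mem_irr.mp hψ)), Finset.mul_sum, Finset.mul_sum]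
    exact Finset.sum_congr rfl fun g _ => by ring
  rw [this, Finset.sum_eq_single χ (fun ψ hψ hne => by
    rw [IsIrr.dot_ne hχ (mem_irr.mp hψ) hne.symm, mul_zero]) (fun h => absurd (mem_irr.mpr hχ) h),
    IsIrr.dot_self hχ, mul_one]

theorem ev_mul_zzL {χ : G → ℂ} (hχ : IsIrrCharacter G χ) (a : GA G) (w : (G → ℂ) → ℂ) :
    ev χ (a * zzL w) = w χ * ev χ a := by
  have := ev_mul_cen hχ a (cen_zzL w)
  rw [ev_zzL hχ] at this
  exact mul_left_cancel₀ (IsIrr.deg_ne_zero hχ) (by rw [this]; ring)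

/-- the central element acting as the scalar `w χ` in the representation with character `χ` -/
noncomputable def zz : ((G → ℂ) → ℂ) →ₐ[ℂ] GA G :=
  AlgHom.ofLinearMap zzL
    ((cen_zzL _).ext (cen_of_comm fun _ => Commute.one_right _) fun χ hχ => by
      rw [ev_zzL hχ, ev_one]; simp)
    fun a b => (cen_zzL _).ext ((cen_zzL _).mul (cen_zzL _)) fun χ hχ => by
      rw [ev_mul_zzL hχ, ev_zzL hχ, ev_zzL hχ, Pi.mul_apply]; ring

theorem coeff_zz (w : (G → ℂ) → ℂ) (g : G) :
    (zz w).coeff g = (Nat.card G : ℂ)⁻¹ * ∑ χ ∈ irr G, w χ * χ 1 * χ g⁻¹ := rfl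

theorem cen_zz (w : (G → ℂ) → ℂ) : Cen (zz w) := cen_zzL w

theorem ev_zz {χ : G → ℂ} (hχ : IsIrrCharacter G χ) (w : (G → ℂ) → ℂ) :
    ev χ (zz w) = w χ * χ 1 := ev_zzL hχ w

theorem ev_mul_zz {χ : G → ℂ} (hχ : IsIrrCharacter G χ) (a : GA G) (w : (G → ℂ) → ℂ) :
    ev χ (a * zz w) = w χ * ev χ a := ev_mul_zzL hχ a w

theorem zz_congr {w w' : (G → ℂ) → ℂ} (h : ∀ χ, IsIrrCharacter G χ → w χ = w' χ) : zz w = zz w' :=
  (cen_zz _).ext (cen_zz _) fun χ hχ => by rw [ev_zz hχ, ev_zz hχ, h χ hχ]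

theorem Cen.eq_zz {c : GA G} (hc : Cen c) : c = zz fun χ => ev χ c / χ 1 :=
  hc.ext (cen_zz _) fun χ hχ => by rw [ev_zz hχ, div_mul_cancel₀ _ (IsIrr.deg_ne_zero hχ)]

variable {Γ : Type*} [LinearOrderedCommGroupWithZero Γ] {v : Valuation ℂ Γ} {p : ℕ}

variable (v G) in
/-- integral elements -/
noncomputable def IntR : Subring (GA G) where
  carrier := {a | ∀ g, v (a.coeff g) ≤ 1}
  mul_mem' ha hb g := by rw [coeff_mul]; exact val_sum_le fun h _ => val_mul_le (ha _) (hb _)
  one_mem' g := by classical rw [coeff_one]; split_ifs <;> simp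
  add_mem' ha hb g := val_add_le (ha g) (hb g)
  zero_mem' g := by simp
  neg_mem' ha g := by simpa using ha g

theorem mem_IntR {a : GA G} : a ∈ IntR G v ↔ ∀ g, v (a.coeff g) ≤ 1 := Iff.rfl

theorem smul_mem_IntR {a : GA G} {c : ℂ} (hc : v c ≤ 1) (ha : a ∈ IntR G v) : c • a ∈ IntR G v :=
  fun g => val_mul_le hc (ha g)

variable (v) in
/-- small elements -/
def Sm (a : GA G) : Prop := ∀ g, v (a.coeff g) < 1

theorem Sm.zero : Sm v (0 : GA G) := fun g => by simp
theorem Sm.add {a b : GA G} (ha : Sm v a) (hb : Sm v b) : Sm v (a + b) :=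
  fun g => val_add_lt (ha g) (hb g)
theorem Sm.neg {a : GA G} (ha : Sm v a) : Sm v (-a) := fun g => by simpa using ha g
theorem Sm.sub {a b : GA G} (ha : Sm v a) (hb : Sm v b) : Sm v (a - b) :=
  fun g => val_sub_lt (ha g) (hb g)
theorem Sm.mul_left {a b : GA G} (ha : a ∈ IntR G v) (hb : Sm v b) : Sm v (a * b) := fun g => by
  rw [coeff_mul]; exact val_sum_lt fun h _ => val_mul_lt (ha _) (hb _)
theorem Sm.mul_right {a b : GA G} (ha : Sm v a) (hb : b ∈ IntR G v) : Sm v (a * b) := fun g => by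
  rw [coeff_mul]; exact val_sum_lt fun h _ => val_mul_lt' (ha _) (hb _)
theorem Sm.smul {a : GA G} {c : ℂ} (hc : v c ≤ 1) (ha : Sm v a) : Sm v (c • a) :=
  fun g => val_mul_lt hc (ha g)
theorem Sm.smul' {a : GA G} {c : ℂ} (hc : v c < 1) (ha : a ∈ IntR G v) : Sm v (c • a) :=
  fun g => val_mul_lt' hc (ha g)

theorem Sm.cong_mul {a a' b b' : GA G} (ha : Sm v (a - a')) (hb : Sm v (b - b')) (ha' : a' ∈ IntR G v)
    (hb' : b ∈ IntR G v) : Sm v (a * b - a' * b') := by
  have : a * b - a' * b' = (a - a') * b + a' * (b - b') := by noncomm_ring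
  rw [this]
  exact (ha.mul_right hb').add (hb.mul_left ha')

theorem Sm.trans {a b c : GA G} (h : Sm v (a - b)) (h' : Sm v (b - c)) : Sm v (a - c) := by
  simpa using h.add h'

theorem Sm.symm {a b : GA G} (h : Sm v (a - b)) : Sm v (b - a) := by simpa using h.neg

theorem Sm.cong_pow {a a' : GA G} (h : Sm v (a - a')) (ha : a ∈ IntR G v) (ha' : a' ∈ IntR G v) (n : ℕ) :
    Sm v (a ^ n - a' ^ n) := by
  induction n with
  | zero => simpa using Sm.zero
  | succ n ih => rw [pow_succ, pow_succ]; exact ih.cong_mul h (pow_mem ha' n) ha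

theorem Sm.eq_zero {a x : GA G} (ha : Sm v a) (h : x + a * x = 0) : x = 0 := by
  have := eq_zero_of_small (v := v) x.coeff (fun g h => a.coeff (g * h⁻¹)) (fun _ _ => ha _) fun g => by
    have := congrArg (fun b : GA G => b.coeff g) h
    simpa [coeff_mul'] using this
  exact ext_coeff fun g => congrFun this g

theorem Sm.isUnit {u : GA G} (h : Sm v (u - 1)) : IsUnit u := by
  rw [← Algebra.lmul_isUnit_iff (R := ℂ), LinearMap.isUnit_iff_ker_eq_bot, LinearMap.ker_eq_bot']
  intro x hx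
  refine h.eq_zero ?_
  have : u * x = 0 := hx
  rw [sub_mul, this]; simp

theorem zz_eigen {χ : G → ℂ} (hχ : IsIrrCharacter G χ) {w : (G → ℂ) → ℂ} (h0 : w χ ≠ 0)
    (h : Sm v ((w χ)⁻¹ • zz w)) : False := by
  have := h.neg.eq_zero (x := zz (Pi.single χ 1)) (by
    rw [neg_mul, smul_mul_assoc, ← map_mul, ← map_smul, ← map_neg, ← map_add, ← map_zero zz]
    refine zz_congr fun ψ _ => ?_
    by_cases e : ψ = χ
    · subst e; simp [h0]
    · simp [e])
  have h2 := ev_zz hχ (Pi.single χ 1)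
  rw [this] at h2
  exact IsIrr.deg_ne_zero hχ (by simpa using h2.symm)

theorem val_le_of_zz {χ : G → ℂ} (hχ : IsIrrCharacter G χ) {w : (G → ℂ) → ℂ} (h : zz w ∈ IntR G v) :
    v (w χ) ≤ 1 := by
  by_contra hh
  rw [not_le] at hh
  have h0 : w χ ≠ 0 := fun e => by simp [e] at hh
  exact zz_eigen hχ h0 (Sm.smul' (by rw [map_inv₀]; exact inv_lt_one_of_one_lt₀ hh) h)

theorem smul_one_mem {c : ℂ} (hc : v c ≤ 1) : zz (fun _ => c) ∈ IntR G v := by
  have : (fun _ => c : (G → ℂ) → ℂ) = c • 1 := by ext; simp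
  rw [this, map_smul, map_one]
  exact smul_mem_IntR hc (one_mem _)

/-- an integral central element with small eigenvalues is nilpotent modulo small elements -/
theorem sm_pow {w : (G → ℂ) → ℂ} (h : zz w ∈ IntR G v) (hs : ∀ χ, IsIrrCharacter G χ → v (w χ) < 1)
    {n : ℕ} (hn : (irr G).card ≤ n) : Sm v (zz w ^ n) := by
  have key : ∀ s : Finset (G → ℂ), s ⊆ irr G →
      Sm v (zz w ^ s.card - zz (∏ χ ∈ s, (w - fun _ => w χ))) ∧
        zz (∏ χ ∈ s, (w - fun _ => w χ)) ∈ IntR G v := by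
    intro s
    induction s using Finset.induction_on with
    | empty => intro; simpa using Sm.zero
    | insert χ s hχ ih =>
      intro hs'
      obtain ⟨i1, i2⟩ := ih ((Finset.subset_insert _ _).trans hs')
      have hc := hs χ (mem_irr.mp (hs' (Finset.mem_insert_self _ _)))
      have hm : zz (w - fun _ => w χ) ∈ IntR G v := by
        rw [map_sub]; exact sub_mem h (smul_one_mem hc.le)
      rw [Finset.prod_insert hχ, Finset.card_insert_of_notMem hχ, map_mul, pow_succ']
      refine ⟨Sm.cong_mul ?_ i1 hm (pow_mem h _), mul_mem hm i2⟩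
      have : (fun _ => w χ : (G → ℂ) → ℂ) = w χ • 1 := by ext; simp
      rw [map_sub, sub_sub_cancel, this, map_smul, map_one]
      exact Sm.smul' hc (one_mem _)
  have h1 := (key _ subset_rfl).1
  have h2 : zz (∏ χ ∈ irr G, (w - fun _ => w χ)) = 0 := by
    rw [← map_zero zz]
    refine zz_congr fun ψ hψ => ?_
    rw [Finset.prod_apply]
    exact Finset.prod_eq_zero (mem_irr.mpr hψ) (by simp)
  rw [h2, sub_zero] at h1
  obtain ⟨k, rfl⟩ := Nat.exists_eq_add_of_le hn
  rw [pow_add]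
  exact h1.mul_right (pow_mem h _)

/-- the trace lemma in the group algebra -/
theorem ev_idem_zero (hp : p.Prime) (hv : v p < 1) {τ : G → ℂ} (hτ : τ ∈ CF G) {g : G} {f : GA G}
    (hf : f * f = f) (hi : f ∈ IntR G v) (hc : Commute (dl g) f)
    (hs : ∀ h (i : ℕ), ¬ p ∣ i → Commute (g ^ i) h → v (f.coeff h) < 1) : ev τ (dl g * f) = 0 := by
  obtain ⟨ζ, φ, z1, -, hφ, hφ0, hφ1⟩ := exists_phase hp hv (MulAut.conj g).toEquiv
  have hb : Sm v ((mk fun h => φ h * f.coeff h) - f) := fun h => by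
    have : ((mk fun h => φ h * f.coeff h) - f).coeff h = (φ h - 1) * f.coeff h := by simp [sub_mul]
    rw [this]
    by_cases hh : Free p (MulAut.conj g).toEquiv h
    · exact val_mul_lt' (hφ1 h hh) (hi h)
    · simp only [Free, not_forall] at hh
      obtain ⟨i, e, hi'⟩ := hh
      refine val_mul_lt (val_sub_le (hφ0 h) (by simp)) (hs h i hi' ?_)
      have : ((MulAut.conj g).toEquiv ^ i) h = g ^ i * h * (g ^ i)⁻¹ := by
        rw [← MulAut.conj_apply, map_pow]
        exact congrFun (congrArg DFunLike.coe (map_pow (MulAut.toPerm G) (MulAut.conj g) i).symm) h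
      rw [this, mul_inv_eq_iff_eq_mul] at e
      exact e
  refine trace_zero (ev τ) (ev_comm hτ) (b := mk fun h => φ h * f.coeff h) z1 hf hc.eq ?_ (Sm.isUnit (v := v) ?_)
  · refine ext_coeff fun h => ?_
    have e1 := hφ (g⁻¹ * h)
    have e2 := coeff_conj hc (g⁻¹ * h)
    simp only [MulEquiv.toEquiv_eq_coe, EquivLike.coe_coe, MulAut.conj_apply, mul_inv_cancel_left] at e1 e2
    simp [e1, e2, mul_assoc]
  · have : f * (mk fun h => φ h * f.coeff h) * f + 1 - f - 1 =
        f * ((mk fun h => φ h * f.coeff h) - f) * f := by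
      rw [mul_sub, sub_mul, hf, hf]; abel
    rw [this]
    exact (hb.mul_left hi).mul_right hi

end CA.Blk
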