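import Cfsg.Agent.Blk.Alg

/-!
# The principal block and block orthogonality
-/

set_option autoImplicit false
set_option linter.unusedSectionVars false

open scoped ComplexConjugate

open Cfsg CA.Chr

namespace CA.Blk

universe u

section Defs

variable {G : Type u} [Group G]

/-- the indicator function of the `p`-regular elements -/
noncomputable def regI (p : ℕ) (G : Type u) [Group G] : G → ℂ := fun y => if p ∣ orderOf y then 0 else 1

theorem regI_mem_CF (p : ℕ) : regI p G ∈ CF G := mem_CF.mpr fun g x => by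
  have : orderOf (x * g * x⁻¹) = orderOf g := (MulAut.conj x).orderOf_eq g
  simp [regI, this]

/-- `g` and `h` lie in different `p`-sections -/
def Sep (p : ℕ) (g h : G) : Prop := ∀ i : ℕ, ¬ p ∣ i → ¬ IsConj (g ^ i) (h ^ i)

theorem Sep.symm {p : ℕ} {g h : G} (s : Sep p g h) : Sep p h g := fun i hi c => s i hi c.symm

theorem orderOf_eq_of_isConj {g h : G} (c : IsConj g h) : orderOf g = orderOf h := by
  obtain ⟨x, rfl⟩ := isConj_iff.mp c
  exact ((MulAut.conj x).orderOf_eq g).symm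

theorem pow_dvd_orderOf_pow {p i k : ℕ} (hp : p.Prime) (hi : ¬ p ∣ i) {g : G} (h : p ^ k ∣ orderOf g) :
    p ^ k ∣ orderOf (g ^ i) := by
  have : orderOf g ∣ i * orderOf (g ^ i) := by
    rw [orderOf_dvd_iff_pow_eq_one, pow_mul, pow_orderOf_eq_one]
  exact (Nat.Coprime.pow_left k ((Nat.Prime.coprime_iff_not_dvd hp).mpr hi)).dvd_of_dvd_mul_left
    (h.trans this)

theorem sep_of_orderOf {p k : ℕ} (hp : p.Prime) {g h : G} (hg : p ^ k ∣ orderOf g)
    (hh : ¬ p ^ k ∣ orderOf h) : Sep p g h := fun i hi c =>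
  hh ((orderOf_eq_of_isConj c ▸ pow_dvd_orderOf_pow hp hi hg).trans (orderOf_pow_dvd i))

variable [Finite G]

/-- the principal `p`-block -/
noncomputable def B0 (p : ℕ) (G : Type u) [Group G] [Finite G] : Finset (G → ℂ) :=
  (irr G).filter fun χ => ⟪χ, regI p G⟫ ≠ 0

theorem mem_B0 {p : ℕ} {χ : G → ℂ} : χ ∈ B0 p G ↔ IsIrrCharacter G χ ∧ ⟪χ, regI p G⟫ ≠ 0 := by
  simp [B0, mem_irr]

theorem B0_irr {p : ℕ} {χ : G → ℂ} (h : χ ∈ B0 p G) : IsIrrCharacter G χ := (mem_B0.mp h).1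

theorem B0_subset (p : ℕ) : B0 p G ⊆ irr G := Finset.filter_subset _ _

/-- the projection onto the span of a set of characters -/
noncomputable def proj (B : Finset (G → ℂ)) : (G → ℂ) →ₗ[ℂ] (G → ℂ) where
  toFun f := ∑ χ ∈ B, ⟪f, χ⟫ • χ
  map_add' a b := by simp [dot_add_left, add_smul, Finset.sum_add_distrib]
  map_smul' c a := by simp [dot_smul_left, Finset.smul_sum, mul_smul]

theorem proj_def (B : Finset (G → ℂ)) (f : G → ℂ) : proj B f = ∑ χ ∈ B, ⟪f, χ⟫ • χ := rfl

theorem proj_apply (B : Finset (G → ℂ)) (f : G → ℂ) (g : G) : proj B f g = ∑ χ ∈ B, ⟪f, χ⟫ * χ g := by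
  simp [proj_def]

theorem proj_irr {B : Finset (G → ℂ)} (hB : B ⊆ irr G) {χ : G → ℂ} (hχ : IsIrrCharacter G χ) :
    proj B χ = if χ ∈ B then χ else 0 := by
  rw [proj_def]
  split_ifs with h
  · rw [Finset.sum_eq_single χ (fun ψ hψ hne => by
      rw [IsIrr.dot_ne hχ (mem_irr.mp (hB hψ)) hne.symm, zero_smul]) (fun h' => absurd h h'),
      IsIrr.dot_self hχ, one_smul]
  · exact Finset.sum_eq_zero fun ψ hψ => by
      rw [IsIrr.dot_ne hχ (mem_irr.mp (hB hψ)) (fun e => h (e ▸ hψ)), zero_smul]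

theorem dot_proj {B : Finset (G → ℂ)} (hB : B ⊆ irr G) (f : G → ℂ) {χ : G → ℂ}
    (hχ : IsIrrCharacter G χ) : ⟪proj B f, χ⟫ = if χ ∈ B then ⟪f, χ⟫ else 0 := by
  rw [proj_def, dot_sum_left]
  simp only [dot_smul_left]
  split_ifs with h
  · rw [Finset.sum_eq_single χ (fun ψ hψ hne => by
      rw [IsIrr.dot_ne (mem_irr.mp (hB hψ)) hχ hne, mul_zero]) (fun h' => absurd h h'),
      IsIrr.dot_self hχ, mul_one]
  · exact Finset.sum_eq_zero fun ψ hψ => by
      rw [IsIrr.dot_ne (mem_irr.mp (hB hψ)) hχ (fun e => h (e ▸ hψ)), mul_zero]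

theorem proj_mem_CF {B : Finset (G → ℂ)} (hB : B ⊆ irr G) (f : G → ℂ) : proj B f ∈ CF G :=
  Subalgebra.sum_mem _ fun χ hχ => Subalgebra.smul_mem _ (IsIrr.mem_CF (mem_irr.mp (hB hχ))) _

end Defs

variable {G : Type u} [Group G] [Fintype G]
variable {Γ : Type*} [LinearOrderedCommGroupWithZero Γ] {v : Valuation ℂ Γ} {p : ℕ}

/-- the block idempotent -/
noncomputable def eB (B : Finset (G → ℂ)) : GA G := zz fun χ => if χ ∈ B then 1 else 0

theorem eB_mul (B : Finset (G → ℂ)) : eB B * eB B = eB B := by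
  rw [eB, ← map_mul]
  exact zz_congr fun χ _ => by by_cases h : χ ∈ B <;> simp [h]

theorem coeff_eB {B : Finset (G → ℂ)} (hB : B ⊆ irr G) (g : G) :
    (eB B).coeff g = (Nat.card G : ℂ)⁻¹ * ∑ χ ∈ B, χ 1 * χ g⁻¹ := by
  rw [eB, coeff_zz, ← Finset.sum_subset hB (fun χ _ h => by simp [h])]
  congr 1
  exact Finset.sum_congr rfl fun χ h => by simp [h]

theorem ev_expand {f : G → ℂ} (hf : f ∈ CF G) (a : GA G) : ev f a = ∑ χ ∈ irr G, ⟪f, χ⟫ * ev χ a := by
  simp only [ev_def, Finset.mul_sum]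
  rw [Finset.sum_comm]
  refine Finset.sum_congr rfl fun g _ => ?_
  rw [CF_expand_apply hf g, Finset.mul_sum]
  exact Finset.sum_congr rfl fun χ _ => by ring

theorem ev_dl_eB {B : Finset (G → ℂ)} (hB : B ⊆ irr G) {f : G → ℂ} (hf : f ∈ CF G) (g : G) :
    ev f (dl g * eB B) = proj B f g := by
  rw [ev_expand hf, proj_apply, ← Finset.sum_subset hB (fun χ hχ h => by
    rw [eB, ev_mul_zz (mem_irr.mp hχ)]; simp [h])]
  refine Finset.sum_congr rfl fun χ h => ?_
  rw [eB, ev_mul_zz (mem_irr.mp (hB h)), ev_dl]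
  simp [h]

theorem orth_of_int (hp : p.Prime) (hv : v p < 1) {B : Finset (G → ℂ)} (hB : B ⊆ irr G)
    (hi : eB B ∈ IntR G v) {g h : G} (s : Sep p g h) : ∑ χ ∈ B, χ g * χ h⁻¹ = 0 := by
  classical
  let π : Equiv.Perm G := Equiv.mulLeft g * Equiv.mulRight h⁻¹
  have hπ : ∀ (i : ℕ) a, (π ^ i) a = g ^ i * a * (h ^ i)⁻¹ := by
    intro i
    induction i with
    | zero => simp
    | succ i ih =>
      intro a
      rw [pow_succ', Equiv.Perm.mul_apply, ih]
      simp [π, pow_succ' g, pow_succ' h, mul_assoc]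
  have := trace_perm_zero hp hv π (fun a i e => by
      by_contra hi
      refine s i hi (isConj_iff.mpr ⟨a⁻¹, ?_⟩)
      rw [hπ, mul_inv_eq_iff_eq_mul] at e
      rw [inv_inv, mul_assoc, e]; simp)
    (Matrix.of fun a b => (eB B).coeff (a * b⁻¹)) (by
      ext a b
      conv_rhs => rw [← eB_mul]
      simp only [Matrix.mul_apply, Matrix.of_apply, coeff_mul']
      rw [← Equiv.sum_comp (Equiv.mulRight b)]
      simp [mul_assoc]) (fun _ _ => hi _) (fun a b => by
      simp only [Matrix.of_apply]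
      rw [← CF_conj (show Cen (eB B) from cen_zz _) (a * b⁻¹) g]
      simp [π, mul_assoc])
  simp only [Matrix.of_apply, coeff_eB hB, ← Finset.mul_sum] at this
  rw [Finset.sum_comm] at this
  have e : ∀ χ ∈ B, ∑ a, χ 1 * χ (a * (π a)⁻¹)⁻¹ = Nat.card G * (χ g * χ h⁻¹) := fun χ hχ => by
    rw [← IsIrr.sum_conj_mul (mem_irr.mp (hB hχ)), Finset.mul_sum]
    simp [π, mul_assoc]
  rw [Finset.sum_congr rfl e, ← Finset.mul_sum, ← mul_assoc, inv_mul_cancel₀ card_ne_zero, one_mul] at this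
  exact this

theorem proj_eq_sum {B : Finset (G → ℂ)} (hB : B ⊆ irr G) (f : G → ℂ) (g : G) :
    proj B f g = (Nat.card G : ℂ)⁻¹ * ∑ h, f h * ∑ χ ∈ B, χ g * χ h⁻¹ := by
  rw [proj_apply]
  simp only [Finset.mul_sum]
  rw [Finset.sum_comm]
  refine Finset.sum_congr rfl fun χ hχ => ?_
  rw [IsChar.dot_eq_inv (IsIrr.isChar (mem_irr.mp (hB hχ))), Finset.mul_sum, Finset.sum_mul]
  exact Finset.sum_congr rfl fun h _ => by ring

theorem proj_zero_of_int (hp : p.Prime) (hv : v p < 1) {B : Finset (G → ℂ)} (hB : B ⊆ irr G)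
    (hi : eB B ∈ IntR G v) {f : G → ℂ} {g : G} (s : ∀ h, f h ≠ 0 → Sep p g h) : proj B f g = 0 := by
  rw [proj_eq_sum hB, Finset.sum_eq_zero, mul_zero]
  intro h _
  by_cases hf : f h = 0
  · simp [hf]
  · rw [orth_of_int hp hv hB hi (s h hf), mul_zero]

open Classical in
variable (v G) in
/-- the principal block, defined by congruences of central characters -/
noncomputable def Bv : Finset (G → ℂ) :=
  (irr G).filter fun χ => ∀ w, zz w ∈ IntR G v → v (w χ - w 1) < 1

theorem mem_Bv {χ : G → ℂ} :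
    χ ∈ Bv G v ↔ IsIrrCharacter G χ ∧ ∀ w, zz w ∈ IntR G v → v (w χ - w 1) < 1 := by
  simp [Bv, mem_irr]

theorem Bv_subset : Bv G v ⊆ irr G := fun _ h => mem_irr.mpr (mem_Bv.mp h).1

theorem one_mem_Bv : (1 : G → ℂ) ∈ Bv G v := mem_Bv.mpr ⟨one_irr, fun w _ => by simp⟩

theorem eBv_int : eB (Bv G v) ∈ IntR G v := by
  let O : Subring ((G → ℂ) → ℂ) := (IntR G v).comap (zz (G := G)).toRingHom
  have hO : ∀ w, w ∈ O ↔ zz w ∈ IntR G v := fun _ => Iff.rfl
  have h1 : ∀ χ ∈ irr G \ Bv G v, ∃ z ∈ O, v (z χ - z 1) = 1 := by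
    intro χ hχ
    obtain ⟨h1, h2⟩ := Finset.mem_sdiff.mp hχ
    rw [mem_Bv, not_and] at h2
    have := h2 (mem_irr.mp h1)
    push Not at this
    obtain ⟨z, hz, h3⟩ := this
    exact ⟨z, hz, le_antisymm (val_sub_le (val_le_of_zz (mem_irr.mp h1) hz) (val_le_of_zz one_irr hz)) h3⟩
  choose! z hz hz1 using h1
  let u : (G → ℂ) → ℂ := ∏ χ ∈ irr G \ Bv G v, (z χ - fun _ => z χ χ)
  have hu : u ∈ O := prod_mem fun χ hχ => sub_mem (hz χ hχ)
    (smul_one_mem (val_le_of_zz (mem_irr.mp (Finset.mem_sdiff.mp hχ).1) (hz χ hχ)))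
  have hu1 : ∀ ψ ∈ Bv G v, v (u ψ) = 1 := fun ψ hψ => by
    simp only [u, Finset.prod_apply, map_prod]
    refine Finset.prod_eq_one fun χ hχ => ?_
    refine val_eq_one_of_sub (b := -(z χ χ - z χ 1)) (by rw [Valuation.map_neg, hz1 χ hχ]) ?_
    have := (mem_Bv.mp hψ).2 _ (hz χ hχ)
    convert this using 2
    simp
  have : (1 - ∏ ψ ∈ Bv G v, (1 - (fun _ => (u ψ)⁻¹) * u)) ∈ O :=
    sub_mem (one_mem _) (prod_mem fun ψ hψ => sub_mem (one_mem _)
      (mul_mem (smul_one_mem (val_inv (hu1 ψ hψ)).le) hu))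
  rw [hO] at this
  convert this using 1
  refine zz_congr fun χ hχ => ?_
  simp only [Pi.sub_apply, Pi.one_apply, Finset.prod_apply, Pi.mul_apply]
  split_ifs with h
  · rw [Finset.prod_eq_zero h (by rw [inv_mul_cancel₀ (val_ne_zero (hu1 χ h)), sub_self]), sub_zero]
  · have : u χ = 0 := by
      simp only [u, Finset.prod_apply]
      exact Finset.prod_eq_zero (Finset.mem_sdiff.mpr ⟨mem_irr.mpr hχ, h⟩) (by simp)
    simp [this]

theorem proj_regI (hp : p.Prime) (hv : v p < 1) : proj (Bv G v) (regI p G) = regI p G := by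
  funext y
  by_cases hy : p ∣ orderOf y
  · rw [proj_zero_of_int hp hv Bv_subset eBv_int fun h hh =>
      sep_of_orderOf (k := 1) hp (by simpa using hy) (by simpa [regI] using hh)]
    simp [regI, hy]
  · have h1 : proj (Bv G v) (1 - regI p G) y = 0 := proj_zero_of_int hp hv Bv_subset eBv_int fun h hh =>
      (sep_of_orderOf (k := 1) hp (by by_contra h'; rw [pow_one] at h'; simp [regI, h'] at hh)
        (by simpa using hy)).symm
    rw [map_sub, proj_irr Bv_subset one_irr, if_pos one_mem_Bv, Pi.sub_apply, sub_eq_zero] at h1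
    rw [← h1]
    simp [regI, hy]

theorem B0_subset_Bv (hp : p.Prime) (hv : v p < 1) : B0 p G ⊆ Bv G v := fun χ hχ => by
  by_contra h
  have := dot_proj (Bv_subset (v := v)) (regI p G) (B0_irr hχ)
  rw [proj_regI hp hv, if_neg h] at this
  exact (mem_B0.mp hχ).2 (dot_comm_zero this)

theorem mem_zpowers_pow {x : G} {k i : ℕ} (hp : p.Prime) (hx : x ^ p ^ k = 1) (hi : ¬ p ∣ i) :
    x ∈ Subgroup.zpowers (x ^ i) :=
  mem_zpowers_pow_iff.mpr (Nat.Coprime.coprime_dvd_right (orderOf_dvd_of_pow_eq_one hx)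
    (Nat.Coprime.pow_right k ((Nat.Prime.coprime_iff_not_dvd hp).mpr hi).symm))

theorem commute_of_mem_zpowers {x y h : G} (hx : x ∈ Subgroup.zpowers y) (c : Commute y h) : Commute x h := by
  obtain ⟨n, rfl⟩ := hx
  exact c.zpow_left n

theorem val_sum_outside (hp : p.Prime) (hv : v p < 1) {x : G} {k : ℕ} (hx : x ^ p ^ k = 1)
    {C : Subgroup G} (hC : C = Subgroup.centralizer {x}) [Fintype C] (F : G → ℂ)
    (h1 : ∀ g, F (x * g * x⁻¹) = F g) (h2 : ∀ g, v (F g) ≤ 1) :
    v (∑ g, F g - ∑ c : C, F c) < 1 := by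
  classical
  have e : ∑ g, F g - ∑ c : C, F c = ∑ g, if g ∈ C then 0 else F g := by
    rw [← Finset.sum_subtype (Finset.univ.filter (· ∈ C)) (p := (· ∈ C)) (by simp) F, Finset.sum_filter,
      ← Finset.sum_sub_distrib]
    exact Finset.sum_congr rfl fun g _ => by split_ifs <;> simp
  rw [e]
  refine val_sum_free hp hv (MulAut.conj x).toEquiv _ (fun g => ?_) (fun g => by split_ifs <;> simp [h2])
    fun g hg i e => ?_
  · have : x * g * x⁻¹ ∈ C ↔ g ∈ C := by
      have hx : x ∈ C := hC ▸ Subgroup.mem_centralizer_singleton_iff.mpr rfl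
      rw [C.mul_mem_cancel_right (inv_mem hx), C.mul_mem_cancel_left hx]
    simp [this, h1]
  · by_contra hi
    have : ((MulAut.conj x).toEquiv ^ i) g = x ^ i * g * (x ^ i)⁻¹ := by
      rw [← MulAut.conj_apply, map_pow]
      exact congrFun (congrArg DFunLike.coe (map_pow (MulAut.toPerm G) (MulAut.conj x) i).symm) g
    rw [this, mul_inv_eq_iff_eq_mul] at e
    have c := commute_of_mem_zpowers (mem_zpowers_pow hp hx hi) e
    exact hg (if_pos (hC ▸ Subgroup.mem_centralizer_singleton_iff.mpr c.eq.symm))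

/-- Burnside's normal complement, as a set of regular elements -/
theorem exists_npc {G : Type u} [Group G] [Finite G] (hp : p.Prime) (P : Sylow p G)
    (hP : Subgroup.normalizer (P : Set G) ≤ Subgroup.centralizer (P : Set G)) :
    ∃ K : Subgroup G, K.Normal ∧ ¬ p ∣ Nat.card K ∧ K.index = Nat.card P ∧ ∀ y, y ∈ K ↔ ¬ p ∣ orderOf y := by
  haveI := Fact.mk hp
  refine ⟨(MonoidHom.transferSylow P hP).ker, inferInstance, MonoidHom.not_dvd_card_ker_transferSylow P hP,
    (MonoidHom.ker_transferSylow_isComplement' P hP).symm.index_eq_card, fun y => ⟨fun hy h => ?_, fun hy => ?_⟩⟩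
  · exact MonoidHom.not_dvd_card_ker_transferSylow P hP (h.trans (Subgroup.orderOf_dvd_natCard _ hy))
  · obtain ⟨k, hk⟩ := IsPGroup.iff_orderOf.mp P.2 (MonoidHom.transferSylow P hP y)
    rw [MonoidHom.mem_ker, ← orderOf_eq_one_iff]
    refine Nat.eq_one_of_dvd_coprimes (Nat.Coprime.pow_left k ((Nat.Prime.coprime_iff_not_dvd hp).mpr hy))
      (hk ▸ dvd_rfl) (orderOf_map_dvd _ _)

theorem regI_subtype (C : Subgroup G) (c : C) : regI p G c = regI p C c := by simp [regI]

theorem sum_regI_of_npc {K : Subgroup G} (hK : ∀ y, y ∈ K ↔ ¬ p ∣ orderOf y) (F : G → ℂ) [Fintype K] :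
    ∑ g, regI p G g * F g = ∑ k : K, F k := by
  classical
  rw [← Finset.sum_subtype (Finset.univ.filter (· ∈ K)) (p := (· ∈ K)) (by simp) F, Finset.sum_filter]
  exact Finset.sum_congr rfl fun g _ => by by_cases h : p ∣ orderOf g <;> simp [regI, hK, h]

theorem val_sum_regI (hp : p.Prime) (hv : v p < 1) (n : ℕ) :
    ∀ (G : Type u) [Group G] [Fintype G], Nat.card G = n → v (∑ g, regI p G g) = 1 := by
  induction n using Nat.strong_induction_on with
  | _ n ih =>
  intro G _ _ hn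
  classical
  haveI := Fact.mk hp
  obtain ⟨P⟩ : Nonempty (Sylow p G) := inferInstance
  by_cases hP : ∀ x ∈ P, Subgroup.centralizer ({x} : Set G) = ⊤
  · obtain ⟨K, -, h1, -, h2⟩ := exists_npc hp P fun g _ x hx =>
      (Subgroup.mem_centralizer_singleton_iff.mp ((hP x hx).ge (Subgroup.mem_top g))).symm
    have := sum_regI_of_npc h2 1
    simp only [Pi.one_apply, mul_one, Finset.sum_const, Finset.card_univ, nsmul_eq_mul] at this
    rw [this]
    exact val_nat_eq_one hp hv (by rwa [← Nat.card_eq_fintype_card])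
  · push Not at hP
    obtain ⟨x, hx, hC⟩ := hP
    obtain ⟨k, hk⟩ := P.2 ⟨x, hx⟩
    have hk' : x ^ p ^ k = 1 := congrArg Subtype.val hk
    have := val_sum_outside hp hv hk' rfl (regI p G) (fun g => CF_conj (regI_mem_CF p) g x)
      (fun g => by unfold regI; split_ifs <;> simp)
    simp only [regI_subtype] at this
    refine val_eq_one_of_sub (ih _ ?_ _ rfl) this
    rw [← hn]
    exact Finite.card_subtype_lt (x := (not_forall.mp ((Subgroup.eq_top_iff' _).not.mp hC)).choose)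
      (not_forall.mp ((Subgroup.eq_top_iff' _).not.mp hC)).choose_spec

/-- the central character of the sum of the regular elements -/
noncomputable def wR (p : ℕ) (G : Type u) [Group G] [Fintype G] : (G → ℂ) → ℂ :=
  fun χ => ev χ (mk (regI p G)) / χ 1

theorem zz_wR : zz (wR p G) = mk (regI p G) := (Cen.eq_zz (c := mk (regI p G)) (regI_mem_CF p)).symm

theorem regI_int : mk (regI p G) ∈ IntR G v := fun g => by
  simp only [coeff_mk, regI]; split_ifs <;> simp

theorem wR_one : wR p G 1 = ∑ g, regI p G g := by simp [wR, ev_def]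

theorem wR_eq (χ : G → ℂ) : wR p G χ = Nat.card G * ⟪χ, regI p G⟫ / χ 1 := by
  rw [wR, dot_def, ← mul_assoc, mul_inv_cancel₀ card_ne_zero, one_mul, ev_def]
  congr 1
  exact Finset.sum_congr rfl fun g _ => by simp only [coeff_mk, regI]; split_ifs <;> simp

theorem B0_eq_Bv (hp : p.Prime) (hv : v p < 1) : B0 p G = Bv G v := by
  refine (B0_subset_Bv hp hv).antisymm fun χ hχ => mem_B0.mpr ⟨(mem_Bv.mp hχ).1, fun e => ?_⟩
  have := (mem_Bv.mp hχ).2 (wR p G) (zz_wR (p := p) (G := G) ▸ regI_int)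
  rw [wR_eq χ, e, wR_one] at this
  simp [val_sum_regI hp hv _ G rfl] at this

theorem eB0_int (hp : p.Prime) (hv : v p < 1) : eB (B0 p G) ∈ IntR G v := B0_eq_Bv (G := G) hp hv ▸ eBv_int

theorem one_mem_B0 {G : Type u} [Group G] [Finite G] (hp : p.Prime) : (1 : G → ℂ) ∈ B0 p G := by
  cases nonempty_fintype G
  obtain ⟨V, hV⟩ := exists_val hp
  rw [B0_eq_Bv hp hV]
  exact one_mem_Bv

/-- block orthogonality -/
theorem B0_orth {G : Type u} [Group G] [Finite G] (hp : p.Prime) {g h : G} (s : Sep p g h) :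
    ∑ χ ∈ B0 p G, χ g * conj (χ h) = 0 := by
  cases nonempty_fintype G
  obtain ⟨V, hV⟩ := exists_val hp
  rw [← orth_of_int hp hV (B0_subset p) (eB0_int hp hV) s]
  exact Finset.sum_congr rfl fun χ hχ => by rw [IsChar.apply_inv (IsIrr.isChar (B0_irr hχ))]

theorem proj0_zero {G : Type u} [Group G] [Finite G] (hp : p.Prime) {f : G → ℂ} {g : G}
    (s : ∀ h, f h ≠ 0 → Sep p g h) : proj (B0 p G) f g = 0 := by
  cases nonempty_fintype G
  obtain ⟨V, hV⟩ := exists_val hp
  exact proj_zero_of_int hp hV (B0_subset p) (eB0_int hp hV) s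

end CA.Blk
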