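import Cfsg.Agent.Blk.B1
import Cfsg.Agent.Char.Clifford

/-!
# Brauer's second and third main theorems for the principal block; kernels
-/

set_option autoImplicit false
set_option linter.unusedSectionVars false

open scoped ComplexConjugate

open Cfsg CA.Chr

namespace CA.Blk

universe u

section Main

variable {G : Type u} [Group G] [Fintype G]
variable {Γ : Type*} [LinearOrderedCommGroupWithZero Γ] {v : Valuation ℂ Γ} {p : ℕ}

theorem one_sub_eB0 (hp : p.Prime) (hv : v p < 1) {c : ℂ} (hc : v (c * ∑ g, regI p G g - 1) < 1) {n : ℕ}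
    (hn : (irr G).card ≤ n) :
    Sm v ((1 - c • mk (regI p G)) ^ n - (1 - eB (B0 p G))) := by
  have hr := val_sum_regI hp hv _ G rfl
  have hc1 : v c = 1 := by
    have := val_eq_one_of_sub (map_one v) hc
    rwa [map_mul, hr, mul_one] at this
  have n0 : n ≠ 0 := fun e => by
    have := Finset.card_pos.mpr ⟨_, one_mem_irr (G := G)⟩
    omega
  let w : (G → ℂ) → ℂ := (fun χ => if χ ∈ B0 p G then 1 else 0) - c • wR p G
  have h0 : ∀ χ, IsIrrCharacter G χ → χ ∉ B0 p G → wR p G χ = 0 := fun χ hχ h => by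
    rw [mem_B0, not_and, not_not] at h
    rw [wR_eq, h hχ]; simp
  have := sm_pow (v := v) (w := w) (by
    rw [map_sub, map_smul, zz_wR]
    exact sub_mem (eB0_int hp hv) (smul_mem_IntR hc1.le regI_int)) (fun χ hχ => by
    by_cases h : χ ∈ B0 p G
    · have h2 := (mem_Bv.mp (B0_eq_Bv (G := G) hp hv ▸ h)).2 (wR p G) (zz_wR (p := p) (G := G) ▸ regI_int)
      rw [wR_one] at h2
      have : w χ = -(c * (wR p G χ - ∑ g, regI p G g) + (c * ∑ g, regI p G g - 1)) := by
        simp [w, h]; ring
      rw [this, Valuation.map_neg]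
      exact val_add_lt (val_mul_lt hc1.le h2) hc
    · simp [w, h, h0 χ hχ h]) hn
  convert this using 1
  rw [← zz_wR, eB, ← map_smul, ← map_one zz, ← map_sub, ← map_sub, ← map_pow, ← map_pow, ← map_sub]
  refine zz_congr fun χ hχ => ?_
  by_cases h : χ ∈ B0 p G
  · simp [w, h]
  · simp [w, h, h0 χ hχ h, n0]

/-- restriction of coefficients to a subgroup (the Brauer map) -/
noncomputable def res (C : Subgroup G) [Fintype C] : GA G →ₗ[ℂ] GA C where
  toFun a := mk fun c => a.coeff c
  map_add' _ _ := ext_coeff fun _ => rfl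
  map_smul' _ _ := ext_coeff fun _ => rfl

variable {C : Subgroup G} [Fintype C]

@[simp] theorem coeff_res (a : GA G) (c : C) : (res C a).coeff c = a.coeff c := rfl

theorem res_one : res C (1 : GA G) = 1 := by
  classical
  exact ext_coeff fun c => by simp [coeff_one]

theorem res_int {a : GA G} (h : a ∈ IntR G v) : res C a ∈ IntR C v := fun _ => h _

theorem Sm.res {a : GA G} (h : Sm v a) : Sm v (res C a) := fun _ => h _

theorem res_mul (hp : p.Prime) (hv : v p < 1) {x : G} {k : ℕ} (hx : x ^ p ^ k = 1)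
    (hC : C = Subgroup.centralizer {x}) {a b : GA G} (ha : a ∈ IntR G v) (hb : b ∈ IntR G v)
    (ca : Commute (dl x) a) (cb : Commute (dl x) b) : Sm v (res C (a * b) - res C a * res C b) := fun c => by
  have := val_sum_outside hp hv hx hC (fun h => a.coeff h * b.coeff (h⁻¹ * c)) (fun h => by
    have hc : (c : G) * x = x * c := Subgroup.mem_centralizer_singleton_iff.mp (hC ▸ c.2)
    rw [coeff_conj ca, ← coeff_conj cb (h⁻¹ * c)]
    congr 2
    rw [mul_assoc x (h⁻¹ * c), mul_assoc h⁻¹, show (c : G) * x⁻¹ = x⁻¹ * c by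
      rw [mul_inv_eq_iff_eq_mul, mul_assoc, hc, inv_mul_cancel_left]]
    group) (fun h => val_mul_le (ha _) (hb _))
  simpa [coeff_mul] using this

theorem res_pow (hp : p.Prime) (hv : v p < 1) {x : G} {k : ℕ} (hx : x ^ p ^ k = 1)
    (hC : C = Subgroup.centralizer {x}) {a : GA G} (ha : a ∈ IntR G v) (ca : Commute (dl x) a) (n : ℕ) :
    Sm v (res C (a ^ n) - res C a ^ n) := by
  induction n with
  | zero => simpa [res_one] using Sm.zero
  | succ n ih =>
    rw [pow_succ, pow_succ]
    exact (res_mul hp hv hx hC (pow_mem ha n) ha (ca.pow_right n) ca).trans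
      (ih.cong_mul (by simpa using Sm.zero) (pow_mem (res_int ha) n) (res_int ha))

/-- Brauer's third main theorem -/
theorem third_main (hp : p.Prime) (hv : v p < 1) {x : G} {k : ℕ} (hx : x ^ p ^ k = 1)
    (hC : C = Subgroup.centralizer {x}) : Sm v (res C (eB (B0 p G)) - eB (B0 p C)) := by
  have hr := val_sum_regI hp hv _ G rfl
  set r := ∑ g, regI p G g with hr'
  have h1 := (one_sub_eB0 (G := G) hp hv (c := r⁻¹) (by rw [inv_mul_cancel₀ (val_ne_zero hr)]; simp)
    (le_max_left _ (irr C).card)).res (C := C)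
  have h2 := one_sub_eB0 (G := C) hp hv (c := r⁻¹) (by
    have := val_sum_outside hp hv hx hC (regI p G) (fun g => CF_conj (regI_mem_CF p) g x)
      (fun g => by unfold regI; split_ifs <;> simp)
    simp only [regI_subtype] at this
    have e : r⁻¹ * ∑ g, regI p C g - 1 = -(r⁻¹ * (r - ∑ g, regI p C g)) := by
      rw [mul_sub, inv_mul_cancel₀ (val_ne_zero hr)]; ring
    rw [e, Valuation.map_neg]
    exact val_mul_lt (val_inv hr).le this) (le_max_right (irr G).card _)
  have h3 := res_pow hp hv hx hC (a := 1 - r⁻¹ • mk (regI p G))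
    (sub_mem (one_mem _) (smul_mem_IntR (val_inv hr).le regI_int))
    ((Commute.one_right _).sub_right
      (Commute.smul_right ((Cen.comm (a := mk (regI p G)) (regI_mem_CF p) _).symm) _))
    (max (irr G).card (irr C).card)
  have e : res C (1 - r⁻¹ • mk (regI p G)) = 1 - r⁻¹ • mk (regI p C) := by
    rw [map_sub, res_one, map_smul]
    congr 2
    exact ext_coeff fun c => regI_subtype C c
  rw [e] at h3
  rw [map_sub, map_sub, res_one] at h1
  have := (h1.symm.trans (h3.trans h2)).neg
  convert this using 1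
  abel

variable (C) in
/-- extension by zero -/
noncomputable def inc : GA C →ₐ[ℂ] GA G := MonoidAlgebra.mapDomainAlgHom ℂ ℂ C.subtype

theorem inc_single (c : C) (z : ℂ) : inc C (MonoidAlgebra.single c z) = MonoidAlgebra.single (c : G) z := by
  simp [inc]

theorem coeff_inc (a : GA C) (c : C) : (inc C a).coeff c = a.coeff c :=
  Finsupp.mapDomain_apply C.subtype_injective a.coeff c

theorem coeff_inc_of_not (a : GA C) {g : G} (hg : g ∉ C) : (inc C a).coeff g = 0 :=
  Finsupp.mapDomain_notin_range _ _ (by simpa using hg)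

theorem inc_int {a : GA C} (h : a ∈ IntR C v) : inc C a ∈ IntR G v := fun g => by
  by_cases hg : g ∈ C
  · rw [coeff_inc a ⟨g, hg⟩]; exact h _
  · simp [coeff_inc_of_not a hg]

theorem res_inc (a : GA C) : res C (inc C a) = a := ext_coeff fun c => coeff_inc a c

theorem ev_inc (f : G → ℂ) (a : GA C) : ev f (inc C a) = ev (f ∘ C.subtype) a := by
  classical
  induction a using MonoidAlgebra.induction_linear with
  | zero => simp
  | add a b ha hb => simp [ha, hb]
  | single c z => simp [inc_single, ev_def, Finsupp.single_apply]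

theorem second_main_aux (hp : p.Prime) (hv : v p < 1) {x : G} {k : ℕ} (hx : x ^ p ^ k = 1)
    (hC : C = Subgroup.centralizer {x}) {f : G → ℂ} (hf : f ∈ CF G) (g : C)
    (hg : x ∈ Subgroup.zpowers (g : G)) :
    proj (B0 p G) f g = proj (B0 p C) (f ∘ C.subtype) g := by
  rw [← ev_dl_eB (B0_subset p) hf, ← ev_dl_eB (B0_subset p) (CF_comp hf _), ← ev_inc, map_mul (inc C), inc_single]
  have h3 := third_main hp hv hx hC
  have iE := eB0_int (G := G) hp hv
  have iC := eB0_int (G := C) hp hv
  have mE := eB_mul (B0 p G)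
  have mC := eB_mul (B0 p C)
  have cE : Cen (eB (B0 p G)) := cen_zz _
  have cC : Cen (eB (B0 p C)) := cen_zz _
  generalize eB (B0 p G) = E at *
  generalize eB (B0 p C) = e at *
  have mE' : inc C e * inc C e = inc C e := by rw [← map_mul, mC]
  have cE' : ∀ c : C, Commute (dl (c : G)) (inc C e) := fun c => by
    rw [dl, ← inc_single]
    exact Commute.map (cC.comm _).symm _
  have hxC : x ∈ C := hC ▸ Subgroup.mem_centralizer_singleton_iff.mpr rfl
  have key : ∀ a b : GA G, a * a = a → b * b = b → Commute a b → a ∈ IntR G v → b ∈ IntR G v →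
      (∀ c : C, Commute (dl (c : G)) a) → (∀ c : C, Commute (dl (c : G)) b) →
      Sm v (res C a - e) → Sm v (res C b - e) → ev f (dl (g : G) * (a * (1 - b))) = 0 := by
    intro a b ma mb cab ia ib ca cb sa sb
    have i1 := sub_mem (one_mem _) ib
    have c1 : ∀ c : C, Commute (dl (c : G)) (1 - b) := fun c => (Commute.one_right _).sub_right (cb c)
    refine ev_idem_zero hp hv hf ?_ (mul_mem ia i1) ((ca g).mul_right (c1 g)) fun h i hi c => ?_
    · have : (1 - b) * a = a * (1 - b) := ((Commute.one_left _).sub_left cab.symm).eq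
      rw [mul_assoc, ← mul_assoc (1 - b), this, ← mul_assoc, ← mul_assoc, ma, mul_assoc]
      congr 1
      rw [mul_sub, sub_mul, sub_mul, mb]; simp
    · have hh : h ∈ C := by
        obtain ⟨j, hj⟩ := hg
        have : Commute (x ^ i) h := by
          rw [← hj]
          simp only
          rw [← zpow_natCast, ← zpow_mul, mul_comm, zpow_mul, zpow_natCast]
          exact c.zpow_left j
        exact hC ▸ Subgroup.mem_centralizer_singleton_iff.mpr
          (commute_of_mem_zpowers (mem_zpowers_pow hp hx hi) this).eq.symm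
      have s1 := res_mul hp hv hx hC ia i1 (ca ⟨x, hxC⟩) (c1 ⟨x, hxC⟩)
      have s2 : Sm v (res C a * res C (1 - b) - e * (1 - e)) :=
        sa.cong_mul (by rw [map_sub, res_one]; convert sb.neg using 1; abel) iC (res_int i1)
      have := s1.trans s2
      rw [mul_sub e, mul_one, mC, sub_self, sub_zero] at this
      exact this ⟨h, hh⟩
  have cc : Commute E (inc C e) := cE.comm _
  have s0 : Sm v (res C (inc C e) - e) := by rw [res_inc]; simpa using Sm.zero
  have k1 := key E _ mE mE' cc iE (inc_int iC) (fun _ => (cE.comm _).symm) cE' h3 s0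
  have k2 := key _ E mE' mE cc.symm (inc_int iC) iE cE' (fun _ => (cE.comm _).symm) s0 h3
  rw [mul_sub, mul_one, mul_sub, map_sub, sub_eq_zero] at k1 k2
  rw [k1, cc.eq, ← k2]

end Main

variable {G : Type u} [Group G] [Finite G] {p : ℕ}

/-- Brauer's second and third main theorems for the principal block -/
theorem second_main (hp : p.Prime) {x : G} {k : ℕ} (hx : x ^ p ^ k = 1) {C : Subgroup G}
    (hC : C = Subgroup.centralizer {x}) {f : G → ℂ} (hf : f ∈ CF G) (g : C)
    (hg : x ∈ Subgroup.zpowers (g : G)) :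
    proj (B0 p G) f g = proj (B0 p C) (f ∘ C.subtype) g := by
  cases nonempty_fintype G
  cases nonempty_fintype C
  obtain ⟨V, hV⟩ := exists_val hp
  exact second_main_aux hp hV hx hC hf g hg

theorem le_cfker_of_B0 (hp : p.Prime) {K : Subgroup G} [K.Normal] (hK : ¬ p ∣ Nat.card K) {χ : G → ℂ}
    (hχ : χ ∈ B0 p G) : K ≤ cfker χ := by
  classical
  cases nonempty_fintype G
  obtain ⟨V, hV⟩ := exists_val hp
  have h := B0_irr hχ
  rw [B0_eq_Bv hp hV] at hχ
  let c : GA G := mk fun g => if g ∈ K then (Nat.card K : ℂ)⁻¹ else 0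
  have hc : Cen c := mem_CF.mpr fun g x => by
    have : x * g * x⁻¹ ∈ K ↔ g ∈ K := (Subgroup.Normal.mem_comm_iff ‹_›).trans (by simp)
    simp [c, this]
  have e : ∀ f : G → ℂ, ev f c = ⟪f ∘ K.subtype, 1⟫ := fun f => by
    rw [ev_def, dot_def, Finset.mul_sum]
    simp only [Pi.one_apply, map_one, mul_one, Function.comp_apply, Subgroup.subtype_apply]
    rw [← Finset.sum_subtype (Finset.univ.filter (· ∈ K)) (p := (· ∈ K)) (by simp)
      (fun g => (Nat.card K : ℂ)⁻¹ * f g), Finset.sum_filter]
    exact Finset.sum_congr rfl fun g _ => by simp [c]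
  have hi : c ∈ IntR G V.valuation := fun g => by
    simp only [c, coeff_mk]
    split_ifs
    · exact (val_inv (val_nat_eq_one hp hV hK)).le
    · simp
  rw [hc.eq_zz] at hi
  have := (mem_Bv.mp hχ).2 _ hi
  refine K.range_subtype.ge.trans ((range_le_cfker_iff (f := K.subtype) h).mpr fun h0 => ?_)
  simp only [e, h0] at this
  rw [show (1 : G → ℂ) ∘ K.subtype = 1 from rfl, dot_one_one] at this
  simp at this

theorem le_cfker_proj0 (hp : p.Prime) {K : Subgroup G} [K.Normal] (hK : ¬ p ∣ Nat.card K) (f : G → ℂ) :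
    K ≤ cfker (proj (B0 p G) f) := fun _ hg =>
  mem_cfker_sum _ _ fun _ hχ => cfker_le_smul _ _ (le_cfker_of_B0 hp hK hχ hg)

/-- the principal block of a group with a normal `p`-complement -/
theorem proj0_of_npc (hp : p.Prime) {K : Subgroup G} [K.Normal] [Fintype K] (hK : ¬ p ∣ Nat.card K)
    (hK' : ∀ y, y ∈ K ↔ ¬ p ∣ orderOf y) {f : G → ℂ} (hf : f ∈ CF G) (g : G) :
    proj (B0 p G) f g = (Nat.card K : ℂ)⁻¹ * ∑ k : K, f (g * k) := by
  cases nonempty_fintype G
  have key : ∀ χ ∈ irr G, proj (B0 p G) χ g = (Nat.card K : ℂ)⁻¹ * ∑ k : K, χ (g * k) := fun χ hχ => by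
    have h := mem_irr.mp hχ
    rw [proj_irr (B0_subset p) h]
    split_ifs with h0
    · have : ∀ k : K, χ (g * k) = χ g := fun k =>
        cfker_mul' (IsIrr.mem_CF h) (le_cfker_of_B0 hp hK h0 k.2) g
      simp only [this, Finset.sum_const, Finset.card_univ, nsmul_eq_mul]
      rw [← Nat.card_eq_fintype_card, ← mul_assoc, inv_mul_cancel₀ card_ne_zero, one_mul]
    · rw [mem_B0, not_and, not_not] at h0
      have h1 := IsIrr.sum_class_mul h (regI_mem_CF p) g
      have h2 : ∑ y, regI p G y * χ y = 0 := by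
        have := wR_eq (p := p) χ
        rw [h0 h, wR, mul_zero, zero_div, div_eq_zero_iff] at this
        exact this.resolve_right (IsIrr.deg_ne_zero h)
      rw [h2, mul_zero, mul_eq_zero, sum_regI_of_npc hK' (fun y => χ (g * y))] at h1
      rw [h1.resolve_left (IsIrr.deg_ne_zero h)]
      simp
  conv_lhs => rw [CF_expand hf, map_sum, Finset.sum_apply]
  simp only [map_smul, Pi.smul_apply, smul_eq_mul, CF_expand_apply hf, Finset.mul_sum]
  rw [Finset.sum_comm]
  refine Finset.sum_congr rfl fun χ hχ => ?_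
  rw [key χ hχ, Finset.mul_sum, Finset.mul_sum]
  exact Finset.sum_congr rfl fun k _ => by ring

end CA.Blk
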