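import Cfsg.Agent.Blk.B2
import Cfsg.Agent.PF.S01
import Cfsg.Agent.TG.Cyc
import Cfsg.Agent.Fi.Dihedral

/-!
# The Brauer-Suzuki theorem: generalised quaternion Sylow 2-subgroups of order at least 16
-/

set_option autoImplicit false
set_option linter.unusedSectionVars false

open scoped ComplexConjugate

open Cfsg CA.Chr

namespace CA.Blk

universe u

variable {G : Type u} [Group G] [Finite G]

theorem dirr_sum_conj [Fintype G] {α : G → ℂ} (h : Dirr α) (a b : G) :
    α 1 * ∑ x, α (a * (x * b * x⁻¹)) = Nat.card G * (α a * α b) := by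
  rcases h with h | h
  · exact IsIrr.sum_conj_mul h a b
  · simpa using IsIrr.sum_conj_mul h a b

theorem end_lemma {t : G} (hodd : ∀ x, ¬ 2 ∣ orderOf (t * (x * t * x⁻¹))) {α β : G → ℂ} (hα : Dirr α)
    (hβ : Dirr β) (h1 : ⟪α, 1⟫ = 0) (h0 : ∀ g, ¬ 2 ∣ orderOf g → 1 + α g + β g = 0)
    (h : β t ^ 2 = (1 + α t) ^ 2) : ∃ χ, IsIrrCharacter G χ ∧ χ ≠ 1 ∧ t ∈ cfker χ := by
  cases nonempty_fintype G
  have e1 := dirr_sum_conj hα t t
  have e2 := dirr_sum_conj hβ t t
  have e3 : (Nat.card G : ℂ) + ∑ x, α (t * (x * t * x⁻¹)) + ∑ x, β (t * (x * t * x⁻¹)) = 0 := by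
    have := Finset.sum_eq_zero (s := Finset.univ) fun x _ => h0 _ (hodd x)
    simpa [Finset.sum_add_distrib] using this
  have e4 := h0 1 (by simp)
  have : (Nat.card G : ℂ) * (α 1 - α t) ^ 2 = 0 := by
    have hb : β 1 = -1 - α 1 := by linear_combination e4
    rw [hb] at e2
    linear_combination (-(α 1) * (-1 - α 1)) * e3 + (-1 - α 1) * e1 + α 1 * e2 + Nat.card G * α 1 * h
  have e : α t = α 1 := by
    rw [mul_eq_zero, pow_eq_zero_iff two_ne_zero, sub_eq_zero] at this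
    exact (this.resolve_left card_ne_zero).symm
  rcases hα with hα | hα
  · exact ⟨α, hα, fun e => by simp [e, dot_one_one] at h1, (IsIrr.mem_cfker hα).mpr e⟩
  · refine ⟨-α, hα, fun e => ?_, (IsIrr.mem_cfker hα).mpr (by simp [e])⟩
    rw [neg_eq_iff_eq_neg] at e
    simp [e, dot_neg_left, dot_one_one] at h1

theorem decomp_three {W : G → ℂ} (hW : W ∈ ZIrr G) (h3 : ⟪W, W⟫ = 3) (h1 : ⟪W, 1⟫ = 1) :
    ∃ α β, Dirr α ∧ Dirr β ∧ ⟪α, β⟫ = 0 ∧ ⟪α, 1⟫ = 0 ∧ ⟪β, 1⟫ = 0 ∧ W = 1 + α + β := by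
  obtain ⟨α, β, hα, hβ, h0, e⟩ := ZIrr.exists_of_nrm_two (sub_mem hW (one_mem _)) (by
    rw [nrm_sub_of_dot_one dot_one_one h1, nrm_eq_of_dot (r := 3) (by simpa using h3)]; norm_num)
  have hs : ⟪α, 1⟫ + ⟪β, 1⟫ = 0 := by rw [← dot_add_left, ← e, dot_sub_left, h1, dot_one_one, sub_self]
  have ha : ⟪α, 1⟫ = 0 := by
    rcases hα.dot_cases (IsIrr.dirr one_irr) with ⟨h, -⟩ | ⟨h, -⟩ | ⟨-, -, h⟩
    · rw [h] at h0; rwa [dot_comm_zero h0, add_zero] at hs
    · rw [h, dot_neg_left, neg_eq_zero] at h0; rwa [dot_comm_zero h0, add_zero] at hs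
    · exact h
  exact ⟨α, β, hα, hβ, h0, ha, by rwa [ha, zero_add] at hs, by rw [add_assoc, ← e]; abel⟩

/-- `t` is the only involution of its centraliser -/
structure Uniq (t : G) : Prop where
  tt : t * t = 1
  ne : t ≠ 1
  uq : ∀ s, s * s = 1 → Commute t s → s = 1 ∨ s = t

namespace Uniq

variable {t : G} (h : Uniq t)
include h

theorem half {g : G} (c : Commute t g) (h2 : 2 ∣ orderOf g) : g ^ (orderOf g / 2) = t := by
  have o := orderOf_pow_orderOf_div (orderOf_pos g).ne' h2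
  refine (h.uq _ (by rw [← sq]; exact orderOf_dvd_iff_pow_eq_one.mp o.dvd) (c.pow_right _)).resolve_left fun e => ?_
  simp [e] at o

theorem mem_of_sq {u w : G} (hu : u * u = t) (hw : w * w = t) (c : Commute u w) : w = u ∨ w = u⁻¹ := by
  have cu : Commute t u := hu ▸ (Commute.refl u).mul_left (Commute.refl u)
  have cw : Commute t w := hw ▸ (Commute.refl w).mul_left (Commute.refl w)
  rcases h.uq (w * u) (by rw [c.mul_mul_mul_comm, hu, hw, h.tt]) (cw.mul_right cu) with e | e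
  · exact Or.inr (eq_inv_of_mul_eq_one_left e)
  · exact Or.inl (mul_right_cancel (e.trans hu.symm))

theorem sq_quarter {g : G} (c : Commute t g) (h4 : 4 ∣ orderOf g) :
    g ^ (orderOf g / 4) * g ^ (orderOf g / 4) = t := by
  rw [← h.half c (Dvd.dvd.trans (by norm_num) h4), ← pow_add]
  congr 1
  omega

theorem quarter {u g : G} (hu : u * u = t) (c : Commute u g) (h4 : 4 ∣ orderOf g) :
    g ^ (orderOf g / 4) = u ∨ g ^ (orderOf g / 4) = u⁻¹ :=
  h.mem_of_sq hu (h.sq_quarter (hu ▸ c.mul_left c) h4) (c.pow_right _)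

theorem orderOf_eq : orderOf t = 2 := orderOf_eq_prime (by rw [pow_two, h.tt]) h.ne

theorem orderOf_four {u : G} (hu : u * u = t) : orderOf u = 4 :=
  orderOf_eq_prime_pow (p := 2) (n := 1) (by simpa [pow_two, hu] using h.ne)
    (by rw [show 2 ^ (1 + 1) = 2 * 2 from rfl, pow_mul, pow_two u, hu, pow_two, h.tt])

theorem ne_inv {u : G} (hu : u * u = t) : u⁻¹ ≠ u := fun e =>
  h.ne (by rw [← hu]; nth_rewrite 1 [← e]; simp)

end Uniq

theorem two_struct {P : Type u} [Group P] [Finite P] (hP : IsPGroup 2 P)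
    (h : ∀ s s' : P, s * s = 1 → s' * s' = 1 → s ≠ 1 → s' ≠ 1 → s = s') :
    IsCyclic P ∨ ∃ (m : ℕ) (c y : P), 1 ≤ m ∧ orderOf c = 2 ^ (m + 1) ∧ y ∉ Subgroup.zpowers c ∧
      (∀ g, g ∈ Subgroup.zpowers c ∨ y⁻¹ * g ∈ Subgroup.zpowers c) ∧ c * y = y * c⁻¹ ∧ y * y = c ^ 2 ^ m := by
  have hn : ∀ A : Subgroup P, A.Normal → IsMulCommutative A → IsCyclic A := fun A _ cA => by
    by_contra nc
    obtain ⟨p, hp, E, hE⟩ := CA.FG.exists_p2Elem_of_abelian cA nc
    obtain ⟨k, hk⟩ := (hP.to_subgroup E).exists_card_eq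
    have p2 : p = 2 := (Nat.prime_dvd_prime_iff_eq hp Nat.prime_two).mp
      (hp.dvd_of_dvd_pow (hk ▸ hE.card ▸ dvd_pow_self p two_ne_zero))
    subst p2
    obtain ⟨s, hs, s1⟩ := (Subgroup.bot_or_exists_ne_one E).resolve_left (hE.ne_bot hp two_pos)
    have : E ≤ Subgroup.zpowers s := fun x hx => by
      by_cases x1 : x = 1
      · simp [x1]
      · rw [h x s (by rw [← sq, hE.abelem.2 x hx]) (by rw [← sq, hE.abelem.2 s hs]) x1 s1]
        exact Subgroup.mem_zpowers s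
    have := Subgroup.card_le_of_le this
    rw [hE.card, Nat.card_zpowers, orderOf_eq_prime (hE.abelem.2 s hs) s1] at this
    omega
  rcases CA.TG.struct_of_normal_cyclic hP hn with h1 | ⟨m, c, y, hm, ho, hy, gen, h1 | h1⟩
  · exact Or.inl h1
  · exact Or.inr ⟨m, c, y, hm, ho, hy, gen, h1⟩
  · refine absurd (h y (c ^ 2 ^ m) h1.2.1 (by rw [← pow_add, ← two_mul, ← pow_succ', ← ho, pow_orderOf_eq_one])
      (fun e => hy (e ▸ one_mem _)) fun e => ?_) fun e => hy (e ▸ pow_mem (Subgroup.mem_zpowers c) _)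
    have := Nat.le_of_dvd (by positivity) (ho ▸ orderOf_dvd_of_pow_eq_one e)
    rw [pow_succ] at this
    have : 0 < 2 ^ m := by positivity
    omega

theorem exists_npc' {p : ℕ} (hp : p.Prime) (P : Sylow p G)
    (hP : Subgroup.normalizer (P : Set G) ≤ Subgroup.centralizer (P : Set G)) :
    ∃ K : Subgroup G, commutator G ≤ K ∧ ∀ y, y ∈ K ↔ ¬ p ∣ orderOf y := by
  haveI := Fact.mk hp
  haveI : IsMulCommutative P := ⟨⟨fun a b => Subtype.ext (hP (Subgroup.le_normalizer b.2) a a.2)⟩⟩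
  obtain ⟨K, -, -, -, h⟩ := exists_npc hp P hP
  refine ⟨K, fun y hy => (h y).mpr fun d => ?_, h⟩
  have : commutator G ≤ (MonoidHom.transferSylow P hP).ker := by
    rw [commutator_def, Subgroup.commutator_le]
    intro a _ b _
    rw [MonoidHom.mem_ker, map_commutatorElement, commutatorElement_eq_one_iff_mul_comm, mul_comm']
  exact MonoidHom.not_dvd_card_ker_transferSylow P hP (d.trans (Subgroup.orderOf_dvd_natCard _ (this hy)))

theorem mem_sylow_of_central {p k : ℕ} [Fact p.Prime] (P : Sylow p G) {u : G} (hu : u ^ p ^ k = 1)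
    (hc : ∀ g, g * u = u * g) : u ∈ P := by
  haveI : (Subgroup.zpowers u).Normal := ⟨by
    rintro _ ⟨n, rfl⟩ g
    simp only
    rw [((show Commute g u from hc g).zpow_right n).eq, mul_inv_cancel_right]
    exact ⟨n, rfl⟩⟩
  obtain ⟨j, -, hj⟩ := (Nat.dvd_prime_pow Fact.out).mp (orderOf_dvd_of_pow_eq_one hu)
  exact (CA.Fi.isPGroup_zpowers_of_orderOf hj).le_sylow_of_normal P (Subgroup.mem_zpowers u)

theorem Uniq.cent_npc {t u : G} (h : Uniq t) (hu : u * u = t) :
    ∃ K : Subgroup (Subgroup.centralizer ({u} : Set G)), commutator _ ≤ K ∧ ∀ y, y ∈ K ↔ ¬ 2 ∣ orderOf y := by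
  obtain ⟨P⟩ : Nonempty (Sylow 2 (Subgroup.centralizer ({u} : Set G))) := inferInstance
  have hc : ∀ g : Subgroup.centralizer ({u} : Set G), (g : G) * u = u * g := fun g =>
    Subgroup.mem_centralizer_singleton_iff.mp g.2
  let u' : Subgroup.centralizer ({u} : Set G) := ⟨u, Subgroup.mem_centralizer_singleton_iff.mpr rfl⟩
  have o4 : orderOf u' = 4 := (Subgroup.orderOf_mk _ _).trans (h.orderOf_four hu)
  have huP : u' ∈ P := mem_sylow_of_central (k := 2) P (by rw [show 2 ^ 2 = 4 from rfl, ← o4, pow_orderOf_eq_one])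
    fun g => Subtype.ext (hc g)
  have hcy : IsCyclic P := by
    refine (two_struct P.2 fun s s' h1 h2 n1 n2 => ?_).resolve_right ?_
    · have : ∀ s : P, s * s = 1 → s ≠ 1 → ((s : Subgroup.centralizer ({u} : Set G)) : G) = t := fun s h1 n1 =>
        (h.uq _ (congrArg (fun x : P => ((x : Subgroup.centralizer ({u} : Set G)) : G)) h1)
          (hu ▸ Commute.mul_left (hc _).symm (hc _).symm)).resolve_left
          fun e => n1 (Subtype.ext (Subtype.ext e))
      exact Subtype.ext (Subtype.ext ((this s h1 n1).trans (this s' h2 n2).symm))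
    · rintro ⟨m, c, y, hm, ho, -, gen, h1, -⟩
      have cu : ∀ g : P, g * ⟨u', huP⟩ = ⟨u', huP⟩ * g := fun g => Subtype.ext (Subtype.ext (hc _))
      have o4' : orderOf (⟨u', huP⟩ : P) = 4 := (Subgroup.orderOf_mk _ _).trans o4
      generalize (⟨u', huP⟩ : P) = w at cu o4'
      have h2 : y⁻¹ * c * y = c⁻¹ := by rw [mul_assoc, h1, inv_mul_cancel_left]
      rcases gen w with ⟨n, e⟩ | ⟨n, e⟩
      · have : y⁻¹ * w * y⁻¹⁻¹ = w⁻¹ := by rw [← e]; simp only; rw [← conj_zpow, inv_inv, h2, inv_zpow]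
        rw [inv_inv, mul_assoc, ← cu, inv_mul_cancel_left] at this
        have : w ^ 2 = 1 := by rw [pow_two]; nth_rewrite 1 [this]; simp
        have := orderOf_dvd_of_pow_eq_one this
        rw [o4'] at this
        omega
      · have e' : w = y * c ^ n := by rw [show c ^ n = y⁻¹ * w from e, mul_inv_cancel_left]
        have := cu c
        rw [e', ← mul_assoc, h1, mul_assoc, mul_assoc, mul_right_inj, ← zpow_add_one, ← zpow_neg_one,
          ← zpow_add, add_comm, zpow_add, zpow_add, mul_right_inj, zpow_neg_one, zpow_one] at this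
        have : c ^ 2 = 1 := by rw [pow_two]; nth_rewrite 1 [← this]; simp
        have := Nat.le_of_dvd two_pos (ho ▸ orderOf_dvd_of_pow_eq_one this)
        have := Nat.pow_le_pow_right two_pos (show 2 ≤ m + 1 by omega)
        omega
  refine exists_npc' Nat.prime_two P (hcy.normalizer_le_centralizer ?_)
  exact Nat.minFac_eq_two_iff _ |>.mpr ((show 2 ∣ 4 by norm_num).trans (o4 ▸ orderOf_dvd_natCard u'))

theorem BS_big {t u c y : G} (h : Uniq t) (hodd : ∀ x, ¬ 2 ∣ orderOf (t * (x * t * x⁻¹))) (hu : u * u = t)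
    (hc : c * u = u * c) (h4 : 2 ∣ orderOf (c ^ 4)) (hy : y * c * y⁻¹ = c⁻¹) (hyu : y * u * y⁻¹ = u⁻¹) :
    ∃ χ, IsIrrCharacter G χ ∧ χ ≠ 1 ∧ t ∈ cfker χ := by
  obtain ⟨C, hC⟩ : ∃ C, C = Subgroup.centralizer ({u} : Set G) := ⟨_, rfl⟩
  obtain ⟨K, hK, hK'⟩ : ∃ K : Subgroup C, commutator _ ≤ K ∧ ∀ y, y ∈ K ↔ ¬ 2 ∣ orderOf y := hC ▸ h.cent_npc hu
  have mC : ∀ {g}, g ∈ C ↔ g * u * g⁻¹ = u := by
    intro g; rw [hC, Subgroup.mem_centralizer_singleton_iff, mul_inv_eq_iff_eq_mul]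
  haveI : K.Normal := normal_of_commutator_le hK
  let c' : C := ⟨c, hC ▸ Subgroup.mem_centralizer_singleton_iff.mpr hc⟩
  obtain ⟨μ, hμ, hμK, hμc⟩ := exists_irr_not_mem_ker K (g := c' ^ 4) (fun e => (hK' _).mp e
    (Subgroup.orderOf_coe (c' ^ 4) ▸ h4))
  obtain ⟨l, rfl⟩ := IsIrr.exists_lin_of_commutator hμ (hK.trans hμK)
  rw [cfker_lin] at hμK hμc
  have hl : ∀ g : C, ¬ 4 ∣ orderOf g → (lin (l ^ 2) - 1 : C → ℂ) g = 0 := fun g hg => by
    have : g ^ 2 ∈ K := (hK' _).mpr fun d => hg (by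
      rw [orderOf_pow' _ two_ne_zero] at d
      rcases (Nat.dvd_prime Nat.prime_two).mp (Nat.gcd_dvd_right (orderOf g) 2) with e | e
      · exact absurd (Nat.dvd_gcd (by simpa [e] using d) dvd_rfl) (by simp [e])
      · have := Nat.gcd_dvd_left (orderOf g) 2
        rw [e] at d this
        omega)
    have := hμK this
    rw [MonoidHom.mem_ker, map_pow] at this
    simp [lin_apply, ← Units.val_pow_eq_pow_val, this]
  let N : Subgroup G :=
    { carrier := {g | g * u * g⁻¹ = u ∨ g * u * g⁻¹ = u⁻¹}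
      mul_mem' := by
        intro a b ha hb
        have e : a * b * u * (a * b)⁻¹ = a * (b * u * b⁻¹) * a⁻¹ := by group
        have e' : a * u⁻¹ * a⁻¹ = (a * u * a⁻¹)⁻¹ := by group
        rw [Set.mem_setOf_eq, e]
        rcases hb with hb | hb <;> rw [hb]
        · exact ha
        · rw [e']; rcases ha with ha | ha <;> simp [ha]
      one_mem' := by simp
      inv_mem' := by
        rintro a (ha | ha)
        · left; nth_rewrite 1 [← ha]; group
        · right; rw [← inv_eq_iff_eq_inv] at ha; nth_rewrite 1 [← ha]; group }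
  have mN : ∀ {g}, g ∈ N ↔ g * u * g⁻¹ = u ∨ g * u * g⁻¹ = u⁻¹ := Iff.rfl
  have CN : C ≤ N := fun g hg => Or.inl (mC.mp hg)
  let y' : N := ⟨y, Or.inr hyu⟩
  have idx : (C.subgroupOf N).index = 2 := Subgroup.index_eq_two_iff.mpr ⟨y', fun b => by
    have e : (b : G) * y * u * (b * y)⁻¹ = (b * u * (b : G)⁻¹)⁻¹ := by
      calc _ = b * (y * u * y⁻¹) * (b : G)⁻¹ := by group
      _ = _ := by rw [hyu]; group
    simp only [Subgroup.mem_subgroupOf, mC, Subgroup.coe_mul, y', e]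
    have := h.ne_inv hu
    rcases mN.mp b.2 with hb | hb <;> simp [hb, this]⟩
  haveI := Subgroup.normal_of_index_eq_two idx
  let i := Subgroup.inclusion CN
  have ri : i.range = C.subgroupOf N := range_inclusion CN
  have l1 : l ^ 2 ≠ 1 := fun e => hμc (by
    rw [MonoidHom.mem_ker, map_pow, show 4 = 2 * 2 from rfl, pow_mul, ← MonoidHom.pow_apply, e]; simp)
  have d1 : ⟪ind i (lin (l ^ 2)), ind i (lin (l ^ 2))⟫ = 1 := by
    refine IsIrr.dot_self (ind_irr_of_inertia_le i (lin_irr _) fun g hg => ?_)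
    by_contra hn
    have hy' : y' ∈ inertia i (lin (l ^ 2)) := by
      have h1 : g * y' ∈ i.range := by
        rw [ri] at hn ⊢
        rw [Subgroup.mul_mem_iff_of_index_two idx]
        simp only [hn, false_iff, Subgroup.mem_subgroupOf, mC, y', hyu]
        exact h.ne_inv hu
      have := mul_mem (inv_mem hg) (range_le_inertia i (lin_mem_CF _) h1)
      rwa [inv_mul_cancel_left] at this
    have := congrFun ((mem_inertia i).mp hy') c'
    rw [Function.comp_apply, show cj i y' c' = c'⁻¹ from (cj_eq_iff i).mpr (Subtype.ext hy), lin_apply, lin_apply,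
      Units.val_inj, map_inv, inv_eq_iff_mul_eq_one] at this
    refine hμc ?_
    rw [MonoidHom.mem_ker, map_pow, ← this, MonoidHom.pow_apply, ← pow_add]
  have d2 : ⟪ind i 1, ind i 1⟫ = 2 := by
    rw [dot_ind_self i one_irr, show inertia i 1 = ⊤ from inertia_res i (χ := 1) (one_mem _), Subgroup.relIndex_top_right,
      ri, idx]; simp
  have d3 : ⟪ind i (lin (l ^ 2)), ind i 1⟫ = 0 := dot_ind_of_not_mem i (lin_irr _) one_irr fun hh => by
    obtain ⟨g, hg⟩ := (mem_cfclass i).mp hh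
    rw [comp_cj_eq_one_iff, ← lin_one, lin_inj] at hg
    exact l1 hg
  have hθ : ∀ a, ind i (lin (l ^ 2) - 1) a ≠ 0 → a ∈ {a : N | (a : G) ∈ C ∧ 4 ∣ orderOf (a : G)} := fun a ha => by
    refine ⟨?_, ?_⟩
    · by_contra hn
      exact ha (ind_eq_zero_of_not_mem i _ (by rwa [ri]))
    · by_contra hn
      refine ha (ind_eq_zero fun x hx => hl x ?_)
      rwa [Subgroup.orderOf_coe, ← orderOf_eq_of_isConj hx, orderOf_injective i (Subgroup.inclusion_injective _)]
        at hn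
  have d4 := dot_ind_TI (f := N.subtype) N.subtype_injective (A := {a : N | (a : G) ∈ C ∧ 4 ∣ orderOf (a : G)})
    (fun x a ha b hb e => by
      rw [Subgroup.range_subtype, ← inv_mem_iff]
      have e' : (b : G) = x⁻¹ * a * x⁻¹⁻¹ := by simpa using e
      have h1 := h.quarter hu (Subgroup.mem_centralizer_singleton_iff.mp (hC ▸ ha.1)).symm ha.2
      have h2 := h.quarter hu (Subgroup.mem_centralizer_singleton_iff.mp (hC ▸ hb.1)).symm hb.2
      rw [e', CA.Fi.orderOf_cj, conj_pow] at h2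
      rcases h1 with h1 | h1 <;> rw [h1] at h2
      · exact h2
      · rw [show x⁻¹ * u⁻¹ * x⁻¹⁻¹ = (x⁻¹ * u * x⁻¹⁻¹)⁻¹ by group, inv_inj, inv_eq_iff_eq_inv] at h2
        exact h2.symm) (ind_mem_CF _ _) hθ hθ
  have hW : ∀ g, ¬ 4 ∣ orderOf g → ind N.subtype (ind i (lin (l ^ 2) - 1)) g = 0 := fun g hg =>
    ind_eq_zero fun x hx => by
      by_contra hn
      exact hg (orderOf_eq_of_isConj hx ▸ (hθ x hn).2)
  obtain ⟨α, β, hα, hβ, -, h1, -, e⟩ := decomp_three (W := -ind N.subtype (ind i (lin (l ^ 2) - 1)))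
    (neg_mem (ZIrr.ind (ZIrr.ind (sub_mem (lin_mem_ZIrr _) (one_mem _)) _) _))
    (by rw [dot_neg_left, dot_neg_right, neg_neg, d4, map_sub, dot_sub_left, dot_sub_right, dot_sub_right, d1, d2,
      d3, dot_comm_zero d3]; norm_num)
    (by rw [dot_neg_left, dot_ind_one, dot_ind_one, dot_sub_left, dot_one_one, ← lin_one, dot_lin, if_neg l1]; simp)
  have h0 : ∀ g, ¬ 4 ∣ orderOf g → 1 + α g + β g = 0 := fun g hg => by
    have := congrFun e g
    rw [Pi.neg_apply, hW g hg] at this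
    simpa using this.symm
  refine end_lemma hodd hα hβ h1 (fun g hg => h0 g fun d => hg (Dvd.dvd.trans (by norm_num) d)) ?_
  have := h0 t (by rw [h.orderOf_eq]; norm_num)
  rw [show β t = -(1 + α t) by linear_combination this]; ring

end CA.Blk
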