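import Cfsg.Agent.Blk.B1
import Cfsg.Agent.Char.Ind
import Cfsg.Agent.FG.PiNat

/-!
# Brauer's characterisation of characters, one valuation at a time
-/

set_option autoImplicit false
set_option linter.unusedSectionVars false

open scoped ComplexConjugate

open Cfsg CA.Chr

namespace CA.Blk

universe u

variable {G : Type u} [Group G] [Finite G]
variable {Γ : Type*} [LinearOrderedCommGroupWithZero Γ] {v : Valuation ℂ Γ} {p : ℕ}

theorem exists_pair {χ : G → ℂ} (h : IsCharacter G χ) {a b : G} (c : Commute a b) :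
    ∃ s : Multiset (ℂ × ℂ), χ 1 = s.card ∧ (∀ z ∈ s, z.1 ^ orderOf a = 1 ∧ z.2 ^ orderOf b = 1) ∧
      ∀ i j : ℕ, χ (a ^ i * b ^ j) = (s.map fun z => z.1 ^ i * z.2 ^ j).sum := by
  haveI : IsMulCommutative (Subgroup.closure ({a, b} : Set G)) := Subgroup.isMulCommutative_closure (by
    rintro x (rfl | rfl) y (rfl | rfl) <;> simp [c.eq])
  obtain ⟨s, h1, h2⟩ := IsChar.exists_multiset_lin h (Subgroup.closure ({a, b} : Set G)).subtype
  let a' : Subgroup.closure ({a, b} : Set G) := ⟨a, Subgroup.subset_closure (by simp)⟩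
  let b' : Subgroup.closure ({a, b} : Set G) := ⟨b, Subgroup.subset_closure (by simp)⟩
  refine ⟨s.map fun l => ((l a' : ℂ), (l b' : ℂ)), by simpa using h1, fun z hz => ?_, fun i j => ?_⟩
  · obtain ⟨l, -, rfl⟩ := Multiset.mem_map.mp hz
    exact ⟨Subgroup.orderOf_coe a' ▸ lin_pow_orderOf l a', Subgroup.orderOf_coe b' ▸ lin_pow_orderOf l b'⟩
  · have := h2 (a' ^ i * b' ^ j)
    simp only [map_mul, map_pow, Units.val_mul, Units.val_pow_eq_pow_val] at this
    rw [Multiset.map_map]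
    exact this

theorem val_multiset_lt {ι : Type*} (s : Multiset ι) (f g : ι → ℂ) (h : ∀ i ∈ s, v (f i - g i) < 1) :
    v ((s.map f).sum - (s.map g).sum) < 1 := by
  induction s using Multiset.induction_on with
  | empty => simp
  | cons a s ih =>
    simp only [Multiset.map_cons, Multiset.sum_cons, add_sub_add_comm]
    exact val_add_lt (h a (by simp)) (ih fun i hi => h i (by simp [hi]))

theorem char_cong (hp : p.Prime) (hv : v p < 1) {χ : G → ℂ} (h : IsCharacter G χ) {x y : G}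
    (c : Commute x y) {k : ℕ} (hy : y ^ p ^ k = 1) : v (χ (x * y) - χ x) < 1 := by
  obtain ⟨s, -, h1, h2⟩ := exists_pair h c
  have e1 := h2 1 1
  have e2 := h2 1 0
  simp only [pow_one, pow_zero, mul_one] at e1 e2
  rw [e1, e2]
  refine val_multiset_lt _ _ _ fun z hz => ?_
  rw [← mul_sub_one]
  refine val_mul_lt (val_le_of_integral v (isIntegral_of_pow_eq_one (orderOf_pos x).ne' (h1 z hz).1))
    (val_root_sub_one hp hv (k := k) ?_)
  obtain ⟨m, hm⟩ := orderOf_dvd_of_pow_eq_one hy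
  rw [hm, pow_mul, (h1 z hz).2, one_pow]

variable (G v) in
/-- class functions with `v`-integral coefficients -/
def RV : Set (G → ℂ) := {θ | θ ∈ CF G ∧ ∀ χ, IsIrrCharacter G χ → v ⟪θ, χ⟫ ≤ 1}

theorem RV.zirr {θ : G → ℂ} (h : θ ∈ ZIrr G) : θ ∈ RV G v := ⟨ZIrr.mem_CF h, fun χ hχ => by
  obtain ⟨n, hn⟩ := ZIrr.dot_int h (IsIrr.mem_ZIrr hχ)
  rw [hn]; exact val_int_le v n⟩

theorem RV.smul {θ : G → ℂ} {c : ℂ} (hc : v c ≤ 1) (h : θ ∈ RV G v) : c • θ ∈ RV G v :=
  ⟨Subalgebra.smul_mem _ h.1 c, fun χ hχ => by rw [dot_smul_left]; exact val_mul_le hc (h.2 χ hχ)⟩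

theorem RV.add {θ φ : G → ℂ} (h : θ ∈ RV G v) (h' : φ ∈ RV G v) : θ + φ ∈ RV G v :=
  ⟨add_mem h.1 h'.1, fun χ hχ => by rw [dot_add_left]; exact val_add_le (h.2 χ hχ) (h'.2 χ hχ)⟩

theorem RV.sub {θ φ : G → ℂ} (h : θ ∈ RV G v) (h' : φ ∈ RV G v) : θ - φ ∈ RV G v :=
  ⟨sub_mem h.1 h'.1, fun χ hχ => by rw [dot_sub_left]; exact val_sub_le (h.2 χ hχ) (h'.2 χ hχ)⟩

theorem RV.sum {ι : Type*} {s : Finset ι} {θ : ι → G → ℂ} (h : ∀ i ∈ s, θ i ∈ RV G v) :
    ∑ i ∈ s, θ i ∈ RV G v :=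
  ⟨Subalgebra.sum_mem _ fun i hi => (h i hi).1, fun χ hχ => by
    rw [dot_sum_left]; exact val_sum_le fun i hi => (h i hi).2 χ hχ⟩

theorem RV.dot {θ φ : G → ℂ} (h : θ ∈ RV G v) (h' : φ ∈ ZIrr G) : v ⟪θ, φ⟫ ≤ 1 := by
  rw [parseval h.1]
  exact val_sum_le fun χ hχ => val_mul_le (h.2 χ (mem_irr.mp hχ)) (by
    obtain ⟨n, hn⟩ := ZIrr.dot_int (IsIrr.mem_ZIrr (mem_irr.mp hχ)) h'
    rw [hn]; exact val_int_le v n)

theorem RV.mul {θ φ : G → ℂ} (h : θ ∈ RV G v) (h' : φ ∈ RV G v) : θ * φ ∈ RV G v := by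
  rw [CF_expand h.1, Finset.sum_mul]
  refine RV.sum fun χ hχ => ?_
  rw [smul_mul_assoc]
  have hχ' := mem_irr.mp hχ
  refine RV.smul (h.2 χ hχ') ⟨mul_mem (IsIrr.mem_CF hχ') h'.1, fun ψ hψ => ?_⟩
  rw [dot_mul_left]
  exact RV.dot h' (mul_mem (ZIrr.conjFun (IsIrr.mem_ZIrr hχ')) (IsIrr.mem_ZIrr hψ))

theorem RV.comp {H : Type*} [Group H] [Finite H] {θ : G → ℂ} (h : θ ∈ RV G v) (f : H →* G) :
    θ ∘ f ∈ RV H v := by
  have : θ ∘ f = ∑ χ ∈ irr G, ⟪θ, χ⟫ • (χ ∘ f) := by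
    funext x; simp [CF_expand_apply h.1 (f x)]
  rw [this]
  exact RV.sum fun χ hχ => RV.smul (h.2 χ (mem_irr.mp hχ))
    (RV.zirr (ZIrr.comp (IsIrr.mem_ZIrr (mem_irr.mp hχ)) f))

theorem RV.ind {H : Type*} [Group H] [Finite H] {θ : H → ℂ} (h : θ ∈ RV H v) (f : H →* G) :
    ind f θ ∈ RV G v := ⟨ind_mem_CF f θ, fun χ hχ => by
  rw [frob_rec f θ (IsIrr.mem_CF hχ)]
  exact RV.dot h (ZIrr.comp (IsIrr.mem_ZIrr hχ) f)⟩

theorem RV.val {θ : G → ℂ} (h : θ ∈ RV G v) (g : G) : v (θ g) ≤ 1 := by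
  rw [CF_expand_apply h.1]
  exact val_sum_le fun χ hχ => val_mul_le (h.2 χ (mem_irr.mp hχ))
    (val_le_of_integral v (IsChar.isIntegral (IsIrr.isChar (mem_irr.mp hχ)) g))

theorem RV.cong (hp : p.Prime) (hv : v p < 1) {θ : G → ℂ} (h : θ ∈ RV G v) {x y : G}
    (c : Commute x y) {k : ℕ} (hy : y ^ p ^ k = 1) : v (θ (x * y) - θ x) < 1 := by
  rw [CF_expand_apply h.1, CF_expand_apply h.1, ← Finset.sum_sub_distrib]
  refine val_sum_lt fun χ hχ => ?_
  rw [← mul_sub]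
  exact val_mul_lt (h.2 χ (mem_irr.mp hχ)) (char_cong hp hv (IsIrr.isChar (mem_irr.mp hχ)) c hy)

theorem RV.of_card (hG : v (Nat.card G) = 1) {θ : G → ℂ} (h : θ ∈ CF G) (h' : ∀ g, v (θ g) ≤ 1) :
    θ ∈ RV G v := ⟨h, fun χ hχ => by
  cases nonempty_fintype G
  rw [IsChar.dot_eq_inv (IsIrr.isChar hχ)]
  exact val_mul_le (val_inv hG).le (val_sum_le fun g _ => val_mul_le (h' g)
    (val_le_of_integral v (IsChar.isIntegral (IsIrr.isChar hχ) _)))⟩

/-- the multiplication map of an elementary subgroup -/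
def elemHom (x : G) (P : Subgroup G) (hc : ∀ b ∈ P, Commute x b) : Subgroup.zpowers x × P →* G :=
  (Subgroup.zpowers x).subtype.noncommCoprod P.subtype fun a b => by
    obtain ⟨_, n, rfl⟩ := a
    exact (hc b b.2).zpow_left n

@[simp] theorem elemHom_apply (x : G) (P : Subgroup G) (hc) (e : Subgroup.zpowers x × P) :
    elemHom x P hc e = e.1 * e.2 := rfl

theorem RV.fst (hp : p.Prime) (hv : v p < 1) {x : G} (hx : ¬ p ∣ orderOf x) {P : Type*} [Group P] [Finite P]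
    {F : Subgroup.zpowers x → ℂ} (hF : ∀ a, v (F a) ≤ 1) :
    F ∘ MonoidHom.fst (Subgroup.zpowers x) P ∈ RV (Subgroup.zpowers x × P) v :=
  RV.comp (RV.of_card (val_nat_eq_one hp hv (by rwa [Nat.card_zpowers])) (CF_of_comm F) hF) _

theorem RV_of_elem (hp : p.Prime) (hv : v p < 1) {φ : G → ℂ} (hφ : φ ∈ CF G)
    (h : ∀ (x : G) (P : Subgroup G) (hc : ∀ b ∈ P, Commute x b), ¬ p ∣ orderOf x → IsPGroup p P →
      φ ∘ elemHom x P hc ∈ RV (Subgroup.zpowers x × P) v) : φ ∈ RV G v := by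
  classical
  cases nonempty_fintype G
  haveI := Fact.mk hp
  have h1 : ∀ g : G, ∃ θ ∈ RV G v, θ * φ ∈ RV G v ∧ v (θ g) = 1 := by
    intro g
    obtain ⟨y, x, -, -, hy, hx, rfl, c⟩ := CA.FG.exists_piPart {p} g
    obtain ⟨k, hk⟩ := (CA.FG.pElt_iff hp).mp hy
    replace hx := (CA.FG.piNat_compl_singleton_iff hp).mp hx
    obtain ⟨S⟩ : Nonempty (Sylow p (Subgroup.centralizer ({x} : Set G))) := inferInstance
    let P : Subgroup G := (S : Subgroup _).map (Subgroup.centralizer ({x} : Set G)).subtype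
    have hP : IsPGroup p P := S.2.map _
    have hc : ∀ b ∈ P, Commute x b := by
      rintro _ ⟨b, -, rfl⟩
      exact (Subgroup.mem_centralizer_singleton_iff.mp b.2).symm
    let x' : Subgroup.zpowers x := ⟨x, Subgroup.mem_zpowers x⟩
    have hψ := RV.fst (P := P) hp hv hx (F := Pi.single x' 1) (fun a => by
      rw [Pi.single_apply]; split_ifs <;> simp)
    refine ⟨_, RV.ind hψ (elemHom x P hc), ?_, ?_⟩
    · rw [mul_comm, ← ind_mul _ _ hφ]
      exact RV.ind (RV.mul (h x P hc hx hP) hψ) _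
    · rw [c]
      refine val_eq_one_of_sub ?_ (RV.cong hp hv (RV.ind hψ _) c.symm hk)
      rw [ind_apply]
      have : ∀ z : G, (∑ e : Subgroup.zpowers x × P, if elemHom x P hc e = z⁻¹ * x * z then
          (Pi.single x' 1 ∘ MonoidHom.fst (Subgroup.zpowers x) P : _ → ℂ) e else 0) =
          if z ∈ Subgroup.centralizer ({x} : Set G) then 1 else 0 := by
        intro z
        rw [Finset.sum_eq_single (x', 1) ?_ (by simp)]
        · simp only [elemHom_apply, x', Subgroup.mem_centralizer_singleton_iff]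
          simp [mul_assoc, eq_inv_mul_iff_mul_eq]
        · rintro ⟨a, b⟩ - hne
          split_ifs with e
          · by_cases ha : a = x'
            · subst ha
              exfalso
              have e1 : (x * b) ^ orderOf x = 1 := by
                rw [show x * b = z⁻¹ * x * z⁻¹⁻¹ by simpa using e, conj_pow, pow_orderOf_eq_one]; simp
              rw [(hc b b.2).mul_pow, pow_orderOf_eq_one, one_mul] at e1
              obtain ⟨j, hj⟩ := IsPGroup.iff_orderOf.mp hP b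
              refine hne (Prod.ext rfl (orderOf_eq_one_iff.mp ?_))
              exact Nat.eq_one_of_dvd_coprimes
                (Nat.Coprime.pow_left j ((Nat.Prime.coprime_iff_not_dvd hp).mpr hx)) (hj ▸ dvd_rfl)
                (orderOf_dvd_of_pow_eq_one (Subtype.ext e1))
            · simp [ha]
          · rfl
      simp only [this, Finset.sum_boole]
      rw [← Fintype.card_subtype, ← Nat.card_eq_fintype_card, Nat.card_prod, Nat.card_zpowers,
        Subgroup.card_map_of_injective (Subgroup.subtype_injective _),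
        ← (S : Subgroup (Subgroup.centralizer ({x} : Set G))).card_mul_index]
      push_cast
      rw [mul_inv, mul_assoc, inv_mul_cancel_left₀ card_ne_zero, map_mul,
        val_inv (val_nat_eq_one hp hv hx), val_nat_eq_one hp hv S.not_dvd_index, one_mul]
  choose θ hθ hθφ hθ1 using h1
  have key : ∀ s : Finset G, (∏ g ∈ s, ((fun _ => θ g g) - θ g)) ∈ RV G v ∧
      (∏ g ∈ s, θ g g) • φ - (∏ g ∈ s, ((fun _ => θ g g) - θ g)) * φ ∈ RV G v := by
    intro s
    induction s using Finset.induction_on with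
    | empty => simpa using ⟨RV.zirr (one_mem _), RV.zirr (zero_mem _)⟩
    | insert g s hg ih =>
      have c1 : (fun _ => θ g g : G → ℂ) = θ g g • 1 := by ext; simp
      rw [Finset.prod_insert hg, Finset.prod_insert hg, c1]
      refine ⟨RV.mul (RV.sub (RV.smul (hθ1 g).le (RV.zirr (one_mem _))) (hθ g)) ih.1, ?_⟩
      convert RV.add (RV.smul (hθ1 g).le ih.2) (RV.mul ih.1 (hθφ g)) using 1
      funext a
      simp only [Pi.sub_apply, Pi.add_apply, Pi.mul_apply, Pi.smul_apply, smul_eq_mul, Pi.one_apply]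
      ring
  have h2 := (key Finset.univ).2
  have : (∏ g : G, ((fun _ => θ g g) - θ g)) = 0 := by
    funext a
    rw [Finset.prod_apply]
    exact Finset.prod_eq_zero (Finset.mem_univ a) (by simp)
  have h3 : v (∏ g, θ g g) = 1 := by rw [map_prod]; exact Finset.prod_eq_one fun g _ => hθ1 g
  rw [this, zero_mul, sub_zero] at h2
  have := RV.smul (val_inv h3).le h2
  rwa [smul_smul, inv_mul_cancel₀ (val_ne_zero h3), one_smul] at this

theorem RV_cases (v : Valuation ℂ Γ) (G : Type u) [Group G] [Finite G] :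
    v (Nat.card G) = 1 ∨ ∃ p : ℕ, p.Prime ∧ v p < 1 := by
  by_contra h
  push Not at h
  refine h.1 ?_
  have : ∀ n : ℕ, n ≠ 0 → v n = 1 := by
    intro n
    induction n using Nat.recOnMul with
    | zero => simp
    | one => simp
    | prime q hq => exact fun _ => le_antisymm (val_nat_le v q) (h.2 q hq)
    | mul a b ha hb =>
      intro h0
      rw [Nat.cast_mul, map_mul, ha (left_ne_zero_of_mul h0), hb (right_ne_zero_of_mul h0), one_mul]
  exact this _ Nat.card_pos.ne'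

/-- an integral function of the `p'`-part is in `RV` -/
theorem RV_of_section {θ : G → ℂ} (hθ : θ ∈ CF G) (h1 : ∀ g, v (θ g) ≤ 1)
    (h2 : ∀ p : ℕ, p.Prime → v p < 1 → ∀ x y : G, Commute x y → (∃ k, y ^ p ^ k = 1) → θ (x * y) = θ x) :
    θ ∈ RV G v := by
  rcases RV_cases v G with h | ⟨p, hp, hv⟩
  · exact RV.of_card h hθ h1
  refine RV_of_elem hp hv hθ fun x P hc hx hP => ?_
  convert RV.fst (P := P) hp hv hx (F := θ ∘ Subtype.val) (fun a => h1 _) using 1
  funext ⟨⟨_, n, rfl⟩, b⟩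
  obtain ⟨k, hk⟩ := hP b
  exact h2 p hp hv _ _ ((hc b b.2).zpow_left n) ⟨k, congrArg Subtype.val hk⟩

theorem mem_ZIrr_of_local {θ : G → ℂ} (hθ : θ ∈ CF G)
    (h1 : ∀ V : ValuationSubring ℂ, θ ∈ RV G V.valuation)
    (h2 : ∀ (σ : ℂ →+* ℂ) (k : ℕ), k.Coprime (Nat.card G) → (∀ ζ : ℂ, ζ ^ Nat.card G = 1 → σ ζ = ζ ^ k) →
      ∀ g, σ (θ g) = θ (g ^ k)) : θ ∈ ZIrr G := by
  refine mem_ZIrr_of_dot_int hθ fun χ hχ => int_of_aut_fixed
    (isIntegral_of_forall_val fun V => (h1 V).2 χ hχ) fun σ => ?_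
  obtain ⟨k, hk, hσ⟩ := aut_exists_pow σ.toRingHom (Nat.card_pos (α := G)).ne'
  have := ZIrr.dot_map (IsIrr.mem_ZIrr hχ) σ.toRingHom θ
  rw [show σ.toRingHom ∘ θ = θ ∘ powCoprime hk.symm from funext (h2 _ k hk hσ),
    show σ.toRingHom ∘ χ = χ ∘ powCoprime hk.symm from funext fun g =>
      ZIrr.map_apply (IsIrr.mem_ZIrr hχ) _ fun ζ h => hσ ζ (by
        obtain ⟨m, hm⟩ := orderOf_dvd_natCard g
        rw [hm, pow_mul, h, one_pow]), dot_comp_equiv] at this
  exact this.symm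

/-- Brauer's characterisation of characters -/
theorem brauer_char {θ : G → ℂ} (hθ : θ ∈ CF G)
    (h : ∀ (p : ℕ) (x : G) (P : Subgroup G) (hc : ∀ b ∈ P, Commute x b), p.Prime → ¬ p ∣ orderOf x →
      IsPGroup p P → θ ∘ elemHom x P hc ∈ ZIrr (Subgroup.zpowers x × P)) : θ ∈ ZIrr G := by
  have h0 : ∀ g : G, ∃ (f : Subgroup.zpowers g × (⊥ : Subgroup G) →* G),
      θ ∘ f ∈ ZIrr _ ∧ f (⟨g, Subgroup.mem_zpowers g⟩, 1) = g := fun g => by
    obtain ⟨q, h1, hq⟩ := Nat.exists_infinite_primes (orderOf g + 1)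
    exact ⟨_, h q g ⊥ (by simp) hq (fun d => by have := Nat.le_of_dvd (orderOf_pos g) d; omega)
      IsPGroup.of_bot, by simp⟩
  refine mem_ZIrr_of_local hθ (fun V => ?_) fun σ k _ hσ g => ?_
  · rcases RV_cases V.valuation G with h1 | ⟨p, hp, hv⟩
    · refine RV.of_card h1 hθ fun g => ?_
      obtain ⟨f, h2, h3⟩ := h0 g
      exact h3 ▸ val_le_of_integral _ (ZIrr.isIntegral h2 _)
    · exact RV_of_elem hp hv hθ fun x P hc hx hP => RV.zirr (h p x P hc hp hx hP)
  · obtain ⟨f, h2, h3⟩ := h0 g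
    have := ZIrr.map_apply h2 σ (g := (⟨g, Subgroup.mem_zpowers g⟩, 1)) (k := k) fun ζ h => hσ ζ (by
      obtain ⟨m, hm⟩ := orderOf_dvd_natCard g
      rw [Prod.orderOf_mk, orderOf_one, Nat.lcm_one_right, Subgroup.orderOf_mk] at h
      rw [hm, pow_mul, h, one_pow])
    simp only [Function.comp_apply, map_pow, h3] at this
    exact this

end CA.Blk
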