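import Cfsg.Agent.Blk.BS1
import Cfsg.Agent.Blk.RV

/-!
# The principal 2-block of a group with a central involution and quaternion Sylow 2-subgroups of order 8
-/

set_option autoImplicit false
set_option linter.unusedSectionVars false

open scoped ComplexConjugate

open Cfsg CA.Chr

namespace CA.Blk

universe u

variable {H : Type u} [Group H] [Finite H]

theorem B0_mul_core {p k : ℕ} (hp : p.Prime) {x : H} (hx : x ^ p ^ k = 1)
    {K : Subgroup (Subgroup.centralizer ({x} : Set H))} [K.Normal] (hK : ¬ p ∣ Nat.card K)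
    {y : Subgroup.centralizer ({x} : Set H)} (hy : y ∈ K) {χ : H → ℂ} (hχ : χ ∈ B0 p H) :
    χ (x * y) = χ x := by
  let x' : Subgroup.centralizer ({x} : Set H) := ⟨x, Subgroup.mem_centralizer_singleton_iff.mpr rfl⟩
  have h1 := second_main hp hx rfl (IsIrr.mem_CF (B0_irr hχ)) x' (Subgroup.mem_zpowers x)
  have h2 := second_main hp hx rfl (IsIrr.mem_CF (B0_irr hχ)) (x' * y)
    (CA.FG.mem_zpowers_mul_of_coprime (Subgroup.mem_centralizer_singleton_iff.mp y.2).symm
      (Nat.Coprime.coprime_dvd_left (orderOf_dvd_of_pow_eq_one hx) (Nat.Coprime.pow_left k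
        ((Nat.Prime.coprime_iff_not_dvd hp).mpr fun d => hK
          ((Subgroup.orderOf_coe y ▸ d).trans (Subgroup.orderOf_dvd_natCard K hy))))))
  rw [cfker_mul' (proj_mem_CF (B0_subset p) _) (le_cfker_proj0 hp hK _ hy), ← h1,
    proj_irr (B0_subset p) (B0_irr hχ), if_pos hχ] at h2
  exact h2

theorem dvd_orderOf_mul_iff {q : ℕ} (hq : q.Prime) {x y : H} (c : Commute x y) (hy : ¬ q ∣ orderOf y) :
    q ∣ orderOf (x * y) ↔ q ∣ orderOf x := by
  refine ⟨fun h => (hq.dvd_mul.mp (h.trans c.orderOf_mul_dvd_mul_orderOf)).resolve_right hy, fun h => ?_⟩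
  have := (c.mul_left (Commute.refl y)).inv_right.orderOf_mul_dvd_mul_orderOf
  rw [mul_inv_cancel_right, orderOf_inv] at this
  exact (hq.dvd_mul.mp (h.trans this)).resolve_right hy

theorem dot_shift {t : H} {a b : H → ℂ} {c d : ℂ} (ha : ∀ g, a (t * g) = c * a g) (hb : ∀ g, b (t * g) = d * b g) :
    ⟪a, b⟫ = c * conj d * ⟪a, b⟫ := by
  have := dot_comp_equiv (Equiv.mulLeft t) a b
  rw [show a ∘ Equiv.mulLeft t = c • a from funext ha, show b ∘ Equiv.mulLeft t = d • b from funext hb,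
    dot_smul_left, dot_smul_right] at this
  rw [mul_assoc, this]

theorem central_sign {t : H} (tt : t * t = 1) (hc : ∀ g, t * g = g * t) {χ : H → ℂ} (hχ : IsIrrCharacter H χ) :
    (∀ g, χ (t * g) = χ g) ∨ ∀ g, χ (t * g) = -χ g := by
  obtain ⟨c, h⟩ := IsIrr.exists_central_scalar hχ (z := t) fun x => by simp [hc x]
  have := h t
  rw [tt, ← mul_one t, h 1, ← mul_assoc, eq_comm, mul_eq_right₀ (IsIrr.deg_ne_zero hχ), mul_self_eq_one_iff] at this
  rcases this with rfl | rfl
  · left; simpa using h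
  · right; simpa using h

theorem val_half {Γ : Type*} [LinearOrderedCommGroupWithZero Γ] {v : Valuation ℂ Γ} {χ : H → ℂ}
    (hχ : IsCharacter H χ) {w a : H} (c : Commute w a) (h : χ (w * w) = χ 1) : v ((χ a - χ (w * a)) / 2) ≤ 1 := by
  obtain ⟨s, h1, h2, h3⟩ := exists_pair hχ c
  have e0 := h3 2 0
  have e1 := h3 0 1
  have e2 := h3 1 1
  simp only [pow_zero, pow_one, mul_one, one_mul] at e0 e1 e2
  rw [pow_two, h, h1] at e0
  have h4 := multiset_eq_one_of_sum (s := s.map fun z => z.1 ^ 2) (fun z' hz' => by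
    obtain ⟨z, hz, rfl⟩ := Multiset.mem_map.mp hz'
    rw [norm_pow, Complex.norm_eq_one_of_pow_eq_one (h2 z hz).1 (orderOf_pos w).ne', one_pow])
    (by simpa using e0.symm)
  rw [e1, e2, ← Multiset.sum_map_sub, ← Multiset.sum_map_div]
  refine v.integer.multiset_sum_mem _ fun z' hz' => ?_
  obtain ⟨z, hz, rfl⟩ := Multiset.mem_map.mp hz'
  rcases mul_self_eq_one_iff.mp ((pow_two _).symm.trans (h4 _ (Multiset.mem_map_of_mem _ hz))) with e | e
  · simp [e]
  · rw [e, show (z.2 - -1 * z.2) / 2 = z.2 by ring]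
    exact val_le_of_integral v (isIntegral_of_pow_eq_one (orderOf_pos a).ne' (h2 z hz).2)

/-- the hypotheses on the centraliser of the involution -/
structure Q8 (t u : H) : Prop extends Uniq t where
  cen : ∀ g, t * g = g * t
  uu : u * u = t
  no8 : ∀ g : H, ¬ 8 ∣ orderOf g
  no16 : ¬ 16 ∣ Nat.card H
  cj : ∀ w, w * w = t → IsConj u w

/-- `1` on elements of odd order, `-1` on their products with `t` -/
noncomputable def rho (t : H) : H → ℂ := fun g => regI 2 H g - regI 2 H (t * g)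

namespace Q8

variable {t u : H} (h : Q8 t u)
include h

theorem two_elt {w : H} {k : ℕ} (hw : w ^ 2 ^ k = 1) : w = 1 ∨ w = t ∨ w * w = t := by
  obtain ⟨j, -, hj⟩ := (Nat.dvd_prime_pow Nat.prime_two).mp (orderOf_dvd_of_pow_eq_one hw)
  rcases j with _ | _ | _ | j
  · exact Or.inl (orderOf_eq_one_iff.mp hj)
  · rcases h.uq w (by rw [← pow_two]; exact orderOf_dvd_iff_pow_eq_one.mp hj.dvd) (h.cen w) with e | e <;>
      simp [e]
  · have := h.sq_quarter (h.cen w) (hj ▸ dvd_rfl)
    rw [hj] at this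
    exact Or.inr (Or.inr (by simpa using this))
  · exact absurd (hj ▸ Dvd.intro (2 ^ j) (by ring)) (h.no8 w)

theorem sq_tw {w : H} (hw : w * w = t) : t * w * (t * w) = t := by
  rw [mul_assoc, ← mul_assoc w, ← h.cen w, ← mul_assoc, ← mul_assoc, h.tt, one_mul, hw]

theorem types (g : H) : (¬ 2 ∣ orderOf g ∧ rho t g = 1 ∧ ¬ 4 ∣ orderOf g) ∨
    (¬ 2 ∣ orderOf (t * g) ∧ rho t g = -1 ∧ ¬ 4 ∣ orderOf g ∧ 2 ∣ orderOf g) ∨
    (4 ∣ orderOf g ∧ rho t g = 0 ∧ ∃ w y, w * w = t ∧ ¬ 2 ∣ orderOf y ∧ Commute w y ∧ g = w * y) := by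
  obtain ⟨w, y, -, -, hw, hy, rfl, c⟩ := CA.FG.exists_piPart {2} g
  obtain ⟨k, hk⟩ := (CA.FG.pElt_iff Nat.prime_two).mp hw
  replace hy := (CA.FG.piNat_compl_singleton_iff Nat.prime_two).mp hy
  have key : ∀ (z : H) (j : ℕ), Commute z y → orderOf z = 2 ^ j → orderOf (z * y) = 2 ^ j * orderOf y :=
    fun z j c e => by
      rw [c.orderOf_mul_eq_mul_orderOf_of_coprime
        (e ▸ Nat.Coprime.pow_left j ((Nat.Prime.coprime_iff_not_dvd Nat.prime_two).mpr hy)), e]
  have k1 := key t 1 (h.cen y) h.orderOf_eq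
  rcases h.two_elt hk with rfl | rfl | e
  · left
    rw [one_mul]
    exact ⟨hy, by simp [rho, regI, hy, k1], by omega⟩
  · right; left
    have : w * (w * y) = y := by rw [← mul_assoc, h.tt, one_mul]
    exact ⟨by rwa [this], by simp [rho, regI, hy, k1, this], by omega, by omega⟩
  · right; right
    have k2 := key w 2 c (h.orderOf_four e)
    have k3 := key (t * w) 2 (Commute.mul_left (h.cen y) c) (h.orderOf_four (h.sq_tw e))
    refine ⟨by omega, ?_, w, y, e, hy, c, rfl⟩
    rw [rho, regI, regI, if_pos (by omega), if_pos (by rw [← mul_assoc]; omega), sub_self]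

theorem rho_t (g : H) : rho t (t * g) = -1 * rho t g := by simp [rho, ← mul_assoc, h.tt]

theorem rho_CF : rho t ∈ CF H := mem_CF.mpr fun g x => by
  rw [rho, rho, CF_conj (regI_mem_CF 2), ← CF_conj (regI_mem_CF 2) (t * g) x, ← mul_assoc, ← mul_assoc, h.cen x,
    mul_assoc x t]

theorem rho_mul {x y : H} (c : Commute x y) (hy : ¬ 2 ∣ orderOf y) : rho t (x * y) = rho t x := by
  simp only [rho, regI, ← mul_assoc, dvd_orderOf_mul_iff Nat.prime_two c hy,
    dvd_orderOf_mul_iff Nat.prime_two (Commute.mul_left (h.cen y) c) hy]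

theorem npc {w : H} (hw : w * w = t) : ∃ K : Subgroup (Subgroup.centralizer ({w} : Set H)),
    K.Normal ∧ ¬ 2 ∣ Nat.card K ∧ K.index = 4 ∧ ∀ y, y ∈ K ↔ ¬ 2 ∣ orderOf y := by
  obtain ⟨P⟩ : Nonempty (Sylow 2 (Subgroup.centralizer ({w} : Set H))) := inferInstance
  have hc : ∀ g : Subgroup.centralizer ({w} : Set H), (g : H) * w = w * g := fun g =>
    Subgroup.mem_centralizer_singleton_iff.mp g.2
  let w' : Subgroup.centralizer ({w} : Set H) := ⟨w, Subgroup.mem_centralizer_singleton_iff.mpr rfl⟩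
  have o4 : orderOf w' = 4 := (Subgroup.orderOf_mk _ _).trans (h.orderOf_four hw)
  have e : (P : Subgroup _) = Subgroup.zpowers w' := by
    refine le_antisymm (fun g hg => ?_) (Subgroup.zpowers_le.mpr (mem_sylow_of_central (k := 2) P
      (by rw [show 2 ^ 2 = 4 from rfl, ← o4, pow_orderOf_eq_one]) fun g => Subtype.ext (hc g)))
    obtain ⟨k, hk⟩ := P.2 ⟨g, hg⟩
    have m := Subgroup.mem_zpowers w'
    rcases h.two_elt (w := g) (k := k) (congrArg (fun x : P => ((x : Subgroup.centralizer ({w} : Set H)) : H)) hk)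
      with e | e | e
    · rw [show g = 1 from Subtype.ext e]; exact one_mem _
    · rw [show g = w' * w' from Subtype.ext (e.trans hw.symm)]; exact mul_mem m m
    · rcases h.mem_of_sq hw e (hc g).symm with e | e
      · rw [show g = w' from Subtype.ext e]; exact m
      · rw [show g = w'⁻¹ from Subtype.ext e]; exact inv_mem m
  obtain ⟨K, h1, h2, h3, h4⟩ := exists_npc Nat.prime_two P fun g _ x hx => by
    obtain ⟨n, rfl⟩ : x ∈ Subgroup.zpowers w' := e ▸ hx
    exact ((show Commute w' g from Subtype.ext (hc g).symm).zpow_left n).eq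
  refine ⟨K, h1, h2, h3.trans ?_, h4⟩
  rw [← o4, ← Nat.card_zpowers, ← e]

theorem B0_four {θ : H → ℂ} (hθ : θ ∈ B0 2 H) {g : H} (hg : 4 ∣ orderOf g) : θ g = θ u := by
  rcases h.types g with h1 | h1 | ⟨-, -, w, y, hw, hy, c, rfl⟩
  · exact absurd hg h1.2.2
  · exact absurd hg h1.2.2.1
  obtain ⟨K, _, h2, -, h4⟩ := h.npc hw
  rw [CF_isConj (IsIrr.mem_CF (B0_irr hθ)) (h.cj w hw)]
  exact B0_mul_core (k := 2) Nat.prime_two
    (by rw [show 2 ^ 2 = 4 from rfl, ← h.orderOf_four hw, pow_orderOf_eq_one]) h2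
    (y := ⟨y, Subgroup.mem_centralizer_singleton_iff.mpr c.eq.symm⟩)
    ((h4 _).mpr (by rwa [Subgroup.orderOf_mk])) hθ

theorem sum_sq : ∑ θ ∈ B0 2 H, θ u * conj (θ u) = 4 := by
  obtain ⟨K, _, h2, h3, h4⟩ := h.npc h.uu
  cases nonempty_fintype K
  let f : H → ℂ := ∑ χ ∈ irr H, conj (χ u) • χ
  have hf : f ∈ CF H := Subalgebra.sum_mem _ fun χ hχ => Subalgebra.smul_mem _ (IsIrr.mem_CF (mem_irr.mp hχ)) _
  have hf' : ∀ g, f g = ∑ χ ∈ irr H, χ g * conj (χ u) := fun g => by simp [f, mul_comm]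
  let u' : Subgroup.centralizer ({u} : Set H) := ⟨u, Subgroup.mem_centralizer_singleton_iff.mpr rfl⟩
  have := second_main (k := 2) Nat.prime_two
    (by rw [show 2 ^ 2 = 4 from rfl, ← h.orderOf_four h.uu, pow_orderOf_eq_one]) rfl hf u' (Subgroup.mem_zpowers u)
  rw [proj0_of_npc Nat.prime_two h2 h4 (CF_comp hf _), Finset.sum_eq_single 1 (fun k _ k1 => ?_) (by simp),
    proj_apply] at this
  · simp only [Function.comp_apply, OneMemClass.coe_one, mul_one, Subgroup.subtype_apply, hf', u'] at this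
    rw [second_orth_conj (IsConj.refl u), ← K.card_mul_index, h3, Nat.cast_mul,
      inv_mul_cancel_left₀ card_ne_zero] at this
    rw [← show ((4 : ℕ) : ℂ) = 4 by norm_num, ← this]
    exact Finset.sum_congr rfl fun θ hθ => by
      rw [dot_sum_irr (fun χ => conj (χ u)) (B0_irr hθ), mul_comm]
  · rw [Function.comp_apply, hf', second_orth_not_conj fun c => k1 ?_]
    have o := orderOf_eq_of_isConj c
    have c : Commute u' k := Subtype.ext (Subgroup.mem_centralizer_singleton_iff.mp k.1.2).symm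
    have o4 : orderOf u' = 2 ^ 2 := (Subgroup.orderOf_mk _ _).trans (h.orderOf_four h.uu)
    rw [Subgroup.subtype_apply, Subgroup.orderOf_coe, c.orderOf_mul_eq_mul_orderOf_of_coprime
      (o4 ▸ Nat.Coprime.pow_left 2 ((Nat.Prime.coprime_iff_not_dvd Nat.prime_two).mpr ((h4 _).mp k.2))), o4,
      h.orderOf_four h.uu] at o
    exact Subtype.ext (orderOf_eq_one_iff.mp (by omega))

theorem t_pow {k : ℕ} (hk : ¬ 2 ∣ k) : t ^ k = t := by
  obtain ⟨j, rfl⟩ : Odd k := Nat.not_even_iff_odd.mp (even_iff_two_dvd.not.mpr hk)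
  rw [pow_succ, pow_mul, pow_two, h.tt, one_pow, one_mul]

theorem int_u {θ : H → ℂ} (hθ : IsIrrCharacter H θ) : ∃ n : ℤ, θ u = n := by
  refine int_of_aut_fixed (IsChar.isIntegral (IsIrr.isChar hθ) u) fun σ => ?_
  obtain ⟨k, hk, hσ⟩ := aut_exists_pow σ.toRingHom (orderOf_pos u).ne'
  refine (IsChar.map_apply (IsIrr.isChar hθ) _ hσ).trans (CF_isConj (IsIrr.mem_CF hθ) (h.cj _ ?_)).symm
  rw [← pow_two, ← pow_mul, mul_comm, pow_mul, pow_two, h.uu, h.t_pow]
  rw [h.orderOf_four h.uu] at hk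
  intro d
  have := Nat.dvd_gcd d (show 2 ∣ 4 by norm_num)
  rw [hk] at this
  omega

variable {Γ : Type*} [LinearOrderedCommGroupWithZero Γ] {v : Valuation ℂ Γ}

theorem rho_RV {T : Subgroup H} (hT : IsPGroup 2 T) (ht : t ∈ T) {c : ℕ}
    (hc : ∀ χ, IsIrrCharacter T χ → χ ⟨t, ht⟩ = -χ 1 → Nat.card T ∣ c * 2 * deg χ) :
    (c : ℂ) • rho t ∘ T.subtype ∈ RV T v := by
  classical
  cases nonempty_fintype T
  refine ⟨Subalgebra.smul_mem _ (CF_comp h.rho_CF _) _, fun χ hχ => ?_⟩
  have e : rho t ∘ T.subtype = Pi.single 1 1 - Pi.single ⟨t, ht⟩ 1 := by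
    funext b
    obtain ⟨k, hk⟩ := hT b
    have t1 : (⟨t, ht⟩ : T) ≠ 1 := fun e => h.ne (congrArg Subtype.val e)
    rcases h.two_elt (w := b) (k := k) (congrArg Subtype.val hk) with e | e | e
    · rw [show b = 1 from Subtype.ext e]; simp [rho, regI, h.orderOf_eq, t1.symm]
    · rw [show b = ⟨t, ht⟩ from Subtype.ext e]; simp [rho, regI, h.orderOf_eq, t1, h.tt]
    · have b1 : b ≠ 1 := fun e' => h.ne (by simpa [e'] using e.symm)
      have b2 : b ≠ ⟨t, ht⟩ := fun e' => h.ne (by simpa [e', h.tt] using e.symm)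
      simp [rho, regI, h.orderOf_four e, h.orderOf_four (h.sq_tw e), b1, b2]
  rw [dot_smul_left, e, dot_def]
  simp only [Pi.sub_apply, sub_mul, Finset.sum_sub_distrib, Pi.single_apply, ite_mul, one_mul, zero_mul,
    Finset.sum_ite_eq', Finset.mem_univ, if_true]
  rcases central_sign (t := ⟨t, ht⟩) (Subtype.ext h.tt) (fun g => Subtype.ext (h.cen g)) hχ with e | e
  · rw [← e 1]; simp
  · have e1 := e 1
    rw [mul_one] at e1
    obtain ⟨d, hd⟩ := hc χ hχ e1
    have hd' : (c : ℂ) * 2 * deg χ = Nat.card T * d := by exact_mod_cast hd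
    rw [e1, map_neg, ← IsIrr.coe_deg hχ, map_natCast, show (c : ℂ) * ((Nat.card T : ℂ)⁻¹ * (deg χ - -deg χ)) =
      (Nat.card T : ℂ)⁻¹ * (c * 2 * deg χ) by ring, hd', inv_mul_cancel_left₀ card_ne_zero]
    exact val_nat_le v d

theorem card_dvd {T : Subgroup H} (hT : IsPGroup 2 T) {w : H} (hw : w ∈ T) (e : w * w = t) (ht : t ∈ T)
    {χ : T → ℂ} (hχ : IsIrrCharacter T χ) (h1 : χ ⟨t, ht⟩ = -χ 1) : Nat.card T ∣ 2 * 2 * deg χ := by
  obtain ⟨i, hi⟩ := IsIrr.deg_prime_pow hT hχ
  rcases i with _ | i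
  · obtain ⟨l, rfl⟩ := IsChar.exists_lin_of_deg_one (IsIrr.isChar hχ) (by rw [← IsIrr.coe_deg hχ, hi]; simp)
    refine Dvd.dvd.mul_right ?_ _
    rw [show 2 * 2 = orderOf w from (h.orderOf_four e).symm, ← Nat.card_zpowers]
    refine Subgroup.card_dvd_of_le fun g hg => ?_
    by_contra hn
    have m := Subgroup.mem_zpowers w
    have key : ∀ x : T, (x : H) ∉ Subgroup.zpowers w → x * x = ⟨t, ht⟩ := fun x hx => by
      obtain ⟨k, hk⟩ := hT x
      rcases h.two_elt (w := x) (k := k) (congrArg Subtype.val hk) with e' | e' | e'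
      · exact absurd (e' ▸ one_mem _) hx
      · exact absurd (e' ▸ e ▸ mul_mem m m) hx
      · exact Subtype.ext e'
    have k1 := congrArg (lin l) (key ⟨g, hg⟩ hn)
    have k2 := congrArg (lin l) (key (⟨g, hg⟩ * ⟨w, hw⟩) (by simpa [Subgroup.mul_mem_cancel_right _ m] using hn))
    have k3 := congrArg (lin l) (show (⟨w, hw⟩ * ⟨w, hw⟩ : T) = ⟨t, ht⟩ from Subtype.ext e)
    simp only [lin_map_mul, h1] at k1 k2 k3
    rw [mul_mul_mul_comm, k1, k3] at k2
    simp [lin_apply] at k2
    norm_num at k2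
  · obtain ⟨j, hj⟩ := hT.exists_card_eq
    have : j ≤ 3 := by
      by_contra hh
      exact h.no16 (((Nat.pow_dvd_pow 2 (show 4 ≤ j by omega)).trans hj.symm.dvd).trans T.card_subgroup_dvd_card)
    rw [hj, hi]
    exact (Nat.pow_dvd_pow 2 this).trans (Dvd.intro (2 ^ i) (by ring))

/-- the virtual character with the values of `1 ± θ` on the regular elements -/
theorem mu_mem {θ : H → ℂ} (hθ : θ ∈ B0 2 H) (h1 : θ u * θ u = 1) (h2 : ∀ g, θ (t * g) = θ g) :
    rho t * (1 + θ u • θ) ∈ ZIrr H := by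
  have hφ : 1 + θ u • θ ∈ ZIrr H :=
    add_mem (one_mem _) (ZIrr.smul_of_int (IsIrr.mem_ZIrr (B0_irr hθ)) (h.int_u (B0_irr hθ)))
  have hCF := mul_mem h.rho_CF (ZIrr.mem_CF hφ)
  refine mem_ZIrr_of_local hCF (fun V => ?_) fun σ k hk hσ g => ?_
  · by_cases hv : V.valuation ((2 : ℕ) : ℂ) < 1
    · refine RV_of_elem Nat.prime_two hv hCF fun x T hc hx hT => ?_
      have ho : ∀ a : Subgroup.zpowers x, ¬ 2 ∣ orderOf (a : H) := fun a d =>
        hx (d.trans (orderOf_dvd_of_mem_zpowers a.2))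
      have cm : ∀ (a : Subgroup.zpowers x), ∀ b ∈ T, Commute b (a : H) := by
        rintro ⟨_, n, rfl⟩ b hb
        exact ((hc b hb).zpow_left n).symm
      have hr : ∀ (a : Subgroup.zpowers x) (b : T), rho t (a * b) = rho t b := fun a b => by
        rw [← (cm a b b.2).eq, h.rho_mul (cm a b b.2) (ho a)]
      by_cases hw : ∃ w ∈ T, w * w = t
      · obtain ⟨w, hw, e⟩ := hw
        have ht : t ∈ T := e ▸ mul_mem hw hw
        convert RV.mul (RV.comp (h.rho_RV hT ht (c := 2) fun χ hχ => h.card_dvd hT hw e ht hχ)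
          (MonoidHom.snd (Subgroup.zpowers x) T)) (RV.fst (P := T) Nat.prime_two hv hx
            (F := fun a => (1 + θ u • θ) (a : H) / 2) fun a => ?_) using 1
        · funext ⟨a, b⟩
          simp only [Function.comp_apply, elemHom_apply, Pi.mul_apply, hr, Pi.smul_apply, MonoidHom.coe_snd,
            MonoidHom.coe_fst, Subgroup.subtype_apply, Pi.add_apply, smul_eq_mul, Pi.one_apply]
          obtain ⟨k, hk⟩ := hT b
          rcases h.two_elt (w := b) (k := k) (congrArg Subtype.val hk) with e | e | e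
          · rw [e, mul_one]; push_cast; ring
          · rw [e, ← h.cen, h2]; push_cast; ring
          · simp [rho, regI, h.orderOf_four e, h.orderOf_four (h.sq_tw e)]
        · have e1 : θ (w * a) = θ u := h.B0_four hθ (h.orderOf_four e ▸ orderOf_dvd_of_mem_zpowers
            (CA.FG.mem_zpowers_mul_of_coprime (cm a w hw).eq (h.orderOf_four e ▸
              Nat.Coprime.pow_left 2 ((Nat.Prime.coprime_iff_not_dvd Nat.prime_two).mpr (ho a)))))
          have e2 := val_half (v := V.valuation) (IsIrr.isChar (B0_irr hθ)) (cm a w hw)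
            (by rw [e, ← h2 1, mul_one])
          rw [show (1 + θ u • θ) (a : H) / 2 = 1 + θ u * ((θ a - θ (w * a)) / 2) by
            simp only [Pi.add_apply, Pi.one_apply, Pi.smul_apply, smul_eq_mul, e1]
            linear_combination (1 / 2) * h1]
          exact val_add_le (by simp) (val_mul_le
            (val_le_of_integral _ (IsChar.isIntegral (IsIrr.isChar (B0_irr hθ)) u)) e2)
      · have key : ∀ b ∈ T, b = 1 ∨ b = t := fun b hb => by
          obtain ⟨k, hk⟩ := hT ⟨b, hb⟩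
          rcases h.two_elt (w := b) (k := k) (congrArg Subtype.val hk) with e | e | e
          · exact Or.inl e
          · exact Or.inr e
          · exact absurd ⟨b, hb, e⟩ hw
        have : rho t ∘ T.subtype ∈ RV T V.valuation := by
          by_cases ht : t ∈ T
          · have := h.rho_RV (v := V.valuation) hT ht (c := 1) fun χ _ _ => Dvd.dvd.mul_right (by
              rw [one_mul, ← h.orderOf_eq, ← Nat.card_zpowers]
              refine Subgroup.card_dvd_of_le fun g hg => ?_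
              rcases key g hg with rfl | rfl <;> simp) _
            simpa using this
          · convert RV.zirr (G := T) (v := V.valuation) (one_mem _) using 1
            funext b
            have := (key b b.2).resolve_right fun e => ht (e ▸ b.2)
            simp [this, rho, regI, h.orderOf_eq]
        convert RV.mul (RV.comp this (MonoidHom.snd (Subgroup.zpowers x) T))
          (RV.zirr (ZIrr.comp hφ (elemHom x T hc))) using 1
        funext ⟨a, b⟩
        simp [hr]
    · refine RV.mul (RV_of_section h.rho_CF (fun g => ?_) fun p hp hp' x y c ⟨k, hk⟩ => h.rho_mul c fun d => ?_)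
        (RV.zirr hφ)
      · rcases h.types g with ⟨-, e, -⟩ | ⟨-, e, -⟩ | ⟨-, e, -⟩ <;> simp [e]
      · have := (Nat.prime_dvd_prime_iff_eq Nat.prime_two hp).mp
          (Nat.prime_two.dvd_of_dvd_pow (d.trans (orderOf_dvd_of_pow_eq_one hk)))
        exact hv (this ▸ hp')
  · have o : ∀ g : H, orderOf (g ^ k) = orderOf g := fun g =>
      (Nat.Coprime.coprime_dvd_left (orderOf_dvd_natCard g) hk.symm).orderOf_pow
    have e : t * g ^ k = (t * g) ^ k := by
      rw [Commute.mul_pow (h.cen g), h.t_pow fun d => ?_]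
      have := Nat.dvd_gcd d (h.orderOf_eq ▸ orderOf_dvd_natCard t)
      rw [hk] at this
      omega
    rw [Pi.mul_apply, Pi.mul_apply, map_mul, ZIrr.map_apply hφ σ (k := k) fun ζ h => hσ ζ (by
      obtain ⟨m, hm⟩ := orderOf_dvd_natCard g
      rw [hm, pow_mul, h, one_pow])]
    congr 1
    simp only [rho, regI, e, o]
    split_ifs <;> simp

end Q8

end CA.Blk
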