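import Cfsg.Agent.Blk.Q8a

/-!
# The Brauer-Suzuki theorem: quaternion Sylow 2-subgroups of order 8
-/

set_option autoImplicit false
set_option linter.unusedSectionVars false

open scoped ComplexConjugate

open Cfsg CA.Chr

namespace CA.Blk

universe u

variable {H : Type u} [Group H] [Finite H]

theorem dot_pointwise {a b c d e f : H → ℂ} (h : ∀ g, a g * conj (b g) = c g * conj (d g) - e g * conj (f g)) :
    ⟪a, b⟫ = ⟪c, d⟫ - ⟪e, f⟫ := by
  cases nonempty_fintype H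
  simp only [dot_def, h, Finset.sum_sub_distrib, mul_sub]

theorem Q8.main {t u : H} (h : Q8 t u) :
    ∃ (B : Finset (H → ℂ)) (W : (H → ℂ) → H → ℂ) (m : (H → ℂ) → ℂ) (Γ : H → ℂ), B.Nonempty ∧
      (∀ a ∈ B, W a ∈ ZIrr H ∧ (∀ g, ¬ 2 ∣ orderOf g → W a g = 0) ∧ ⟪W a, 1⟫ = 1 ∧ ⟪W a, Γ⟫ = 2 ∧
        W a t = 2 * m a ∧ ∀ b ∈ B, ⟪W a, W b⟫ = if a = b then 3 else 1) ∧
      Γ ∈ ZIrr H ∧ (∀ g, ¬ 2 ∣ orderOf g → Γ g = 0) ∧ ⟪Γ, Γ⟫ = 4 ∧ ⟪Γ, 1⟫ = 1 ∧
      ∑ a ∈ B, m a • W a - Γ = ∑ ψ ∈ B0 2 H, conj (ψ t) • ψ := by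
  classical
  have o4 := h.orderOf_four h.uu
  have i1 := one_mem_B0 (G := H) Nat.prime_two
  let B := ((B0 2 H).erase 1).filter fun θ => θ u ≠ 0
  have hB : ∀ θ ∈ B, θ ∈ B0 2 H ∧ θ ≠ 1 ∧ θ u ≠ 0 := fun θ hθ => by
    simp only [B, Finset.mem_filter, Finset.mem_erase] at hθ; tauto
  have split : ∀ F : (H → ℂ) → ℂ, (∀ ψ ∈ B0 2 H, ψ u = 0 → F ψ = 0) →
      ∑ ψ ∈ B0 2 H, F ψ = F 1 + ∑ ψ ∈ B, F ψ := fun F hF => by
    rw [← Finset.add_sum_erase _ _ i1]
    exact congrArg _ (Finset.sum_filter_of_ne (p := fun θ : H → ℂ => θ u ≠ 0) fun ψ hψ hne e =>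
      hne (hF ψ (Finset.mem_of_mem_erase hψ) e)).symm
  obtain ⟨hsq, hcard⟩ : (∀ θ ∈ B, θ u * θ u = 1) ∧ B.card = 3 := by
    choose! n hn using fun θ (hθ : IsIrrCharacter H θ) => h.int_u hθ
    have h1 := h.sum_sq
    rw [split _ fun ψ _ e => by simp [e], Finset.sum_congr rfl (g := fun θ => ((n θ ^ 2 : ℤ) : ℂ))
      fun θ hθ => by rw [hn θ (B0_irr (hB θ hθ).1)]; simp [pow_two]] at h1
    have h2 : ∑ θ ∈ B, n θ ^ 2 = 3 := by
      have : ((∑ θ ∈ B, n θ ^ 2 : ℤ) : ℂ) = 3 := by push_cast at h1 ⊢; simp at h1; linear_combination h1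
      exact_mod_cast this
    have h3 : ∀ θ ∈ B, n θ ^ 2 = 1 := fun θ hθ => by
      have := Finset.single_le_sum (f := fun θ => n θ ^ 2) (fun _ _ => sq_nonneg _) hθ
      have h0 : n θ ≠ 0 := fun e => (hB θ hθ).2.2 (by rw [hn θ (B0_irr (hB θ hθ).1), e]; simp)
      have : n θ ≤ 1 := by nlinarith
      have : -1 ≤ n θ := by nlinarith
      interval_cases n θ <;> simp at h0 ⊢
    refine ⟨fun θ hθ => ?_, ?_⟩
    · rw [hn θ (B0_irr (hB θ hθ).1), ← pow_two]; exact_mod_cast h3 θ hθ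
    · rw [Finset.sum_congr rfl h3] at h2; simp at h2; exact_mod_cast h2
  have hre : ∀ θ ∈ B, conj (θ u) = θ u := fun θ hθ => by
    rcases mul_self_eq_one_iff.mp (hsq θ hθ) with e | e <;> simp [e]
  have o4' : 4 ∣ orderOf (t * u) := (h.orderOf_four (h.sq_tw h.uu)).symm.dvd
  have heven : ∀ θ ∈ B, ∀ g, θ (t * g) = θ g := fun θ hθ =>
    (central_sign h.tt h.cen (B0_irr (hB θ hθ).1)).resolve_right fun e => (hB θ hθ).2.2 (by
      have := e u
      rw [h.B0_four (hB θ hθ).1 o4'] at this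
      linear_combination (1 / 2) * this)
  have hodd : ∀ θ ∈ B0 2 H, θ u = 0 → ∀ g, θ (t * g) = -θ g := fun θ hθ h0 =>
    (central_sign h.tt h.cen (B0_irr hθ)).resolve_left fun e => (mem_B0.mp hθ).2 (by
      have h1 : ⟪θ, 1⟫ = 0 := IsIrr.dot_ne (B0_irr hθ) one_irr fun e => by simp [e] at h0
      have h2 := dot_comp_equiv (Equiv.mulLeft t) θ (regI 2 H)
      rw [show θ ∘ Equiv.mulLeft t = θ from funext e] at h2
      rw [dot_congr_right (ψ' := regI 2 H + regI 2 H ∘ Equiv.mulLeft t) fun g hg => ?_, dot_add_right, h2] at h1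
      · linear_combination (1 / 2) * h1
      · rcases h.types g with ⟨h3, h4, -⟩ | ⟨h3, -, -, h4⟩ | ⟨h3, -⟩
        · simp only [rho, regI, if_neg h3, sub_eq_self] at h4
          simp [regI, h3, h4]
        · simp [regI, h3, h4]
        · exact absurd ((h.B0_four hθ h3).trans h0) hg)
  let U : H → ℂ := fun g => if 4 ∣ orderOf g then 1 else 0
  let Γ : H → ℂ := 1 + ∑ θ ∈ B, θ u • θ
  have hΓ : ∀ g, Γ g = 4 * U g := fun g => by
    have : Γ g = ∑ θ ∈ B0 2 H, θ g * conj (θ u) := by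
      rw [split _ fun ψ _ e => by simp [e]]
      simp only [Γ, Pi.add_apply, Finset.sum_apply, Pi.smul_apply, smul_eq_mul, Pi.one_apply, map_one, mul_one]
      exact congrArg _ (Finset.sum_congr rfl fun θ hθ => by rw [hre θ hθ, mul_comm])
    rw [this]
    simp only [U]
    split_ifs with h4
    · rw [mul_one, ← h.sum_sq]
      exact Finset.sum_congr rfl fun θ hθ => by rw [h.B0_four hθ h4]
    · rw [B0_orth Nat.prime_two (sep_of_orderOf (k := 2) Nat.prime_two o4.symm.dvd h4).symm, mul_zero]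
  have d1 : ∀ a ∈ B, ⟪a u • a, 1⟫ = 0 := fun a ha => by
    rw [dot_smul_left, IsIrr.dot_ne (B0_irr (hB a ha).1) one_irr (hB a ha).2.1, mul_zero]
  have d2 : ∀ a ∈ B, ∀ b ∈ B, ⟪a u • a, b u • b⟫ = if a = b then 1 else 0 := fun a ha b hb => by
    rw [dot_smul_left, dot_smul_right, IsIrr.dot_eq (B0_irr (hB a ha).1) (B0_irr (hB b hb).1), hre b hb]
    split_ifs with e
    · rw [mul_one, e, hsq b hb]
    · simp
  have d3 : ⟪Γ, 1⟫ = 1 := by
    rw [dot_add_left, dot_sum_left, Finset.sum_eq_zero d1, dot_one_one, add_zero]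
  have d4 : ∀ a ∈ B, ⟪a u • a, Γ⟫ = 1 := fun a ha => by
    rw [dot_add_right, d1 a ha, dot_sum_right, Finset.sum_congr rfl (d2 a ha)]
    simp [ha]
  have d5 : ∀ a ∈ B, ∀ b ∈ B, ⟪1 + a u • a, 1 + b u • b⟫ = 1 + if a = b then 1 else 0 := fun a ha b hb => by
    rw [dot_add_left, dot_add_right, dot_add_right, d1 a ha, dot_comm_zero (d1 b hb), d2 a ha b hb, dot_one_one]
    simp
  have v4 : ∀ a ∈ B, ∀ g, 4 ∣ orderOf g → (1 + a u • a) g = 2 := fun a ha g hg => by
    simp only [Pi.add_apply, Pi.one_apply, Pi.smul_apply, smul_eq_mul, h.B0_four (hB a ha).1 hg, hsq a ha]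
    norm_num
  have d6 : ∀ a ∈ B, ∀ b ∈ B, ⟪rho t * (1 + a u • a), rho t * (1 + b u • b)⟫ = if a = b then 1 else 0 :=
    fun a ha b hb => by
      rw [dot_pointwise (c := 1 + a u • a) (d := 1 + b u • b) (e := Γ) (f := 1) fun g => ?_, d5 a ha b hb, d3,
        add_sub_cancel_left]
      rw [hΓ, Pi.mul_apply, Pi.mul_apply]
      rcases h.types g with ⟨-, h4, h3⟩ | ⟨-, h4, h3, -⟩ | ⟨h3, h4, -⟩
      · simp [-Pi.add_apply, U, h3, h4]
      · simp [-Pi.add_apply, U, h3, h4]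
      · rw [v4 a ha g h3, v4 b hb g h3]; simp [U, h3, h4, map_ofNat]; norm_num
  have φe : ∀ a ∈ B, ∀ g, (1 + a u • a) (t * g) = (1 + a u • a) g := fun a ha g => by simp [heven a ha]
  have d7 : ∀ a ∈ B, ∀ f : H → ℂ, (∀ g, f (t * g) = f g) → ⟪rho t * (1 + a u • a), f⟫ = 0 := fun a ha f hf => by
    have := dot_shift (t := t) (a := rho t * (1 + a u • a)) (b := f) (c := -1) (d := 1)
      (fun g => by rw [Pi.mul_apply, h.rho_t, φe a ha, mul_assoc]; rfl) (by simpa using hf)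
    rw [map_one] at this
    linear_combination (1 / 2) * this
  have Γe : ∀ g, Γ (t * g) = Γ g := fun g => by
    simp only [Γ, Pi.add_apply, Finset.sum_apply, Pi.smul_apply, Pi.one_apply]
    exact congrArg _ (Finset.sum_congr rfl fun θ hθ => by rw [heven θ hθ])
  have zφ : ∀ a ∈ B, a u • a ∈ ZIrr H := fun a ha =>
    ZIrr.smul_of_int (IsIrr.mem_ZIrr (B0_irr (hB a ha).1)) (h.int_u (B0_irr (hB a ha).1))
  have Γ0 : ∀ g, ¬ 4 ∣ orderOf g → Γ g = 0 := fun g hg => by simp [hΓ, U, hg]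
  have Γ1 : ∀ g, ¬ 4 ∣ orderOf g → ∑ θ ∈ B, θ u * θ g = -1 := fun g hg => by
    have := Γ0 g hg
    simp only [Γ, Pi.add_apply, Finset.sum_apply, Pi.smul_apply, Pi.one_apply, smul_eq_mul] at this
    linear_combination this
  have r1 : ∀ g, ¬ 2 ∣ orderOf g → rho t g = 1 := fun g hg => by
    rcases h.types g with ⟨-, h4, -⟩ | ⟨-, -, -, h3⟩ | ⟨h3, -⟩
    · exact h4
    · exact absurd h3 hg
    · omega
  refine ⟨B, fun a => (1 + a u • a) - rho t * (1 + a u • a), fun a => (1 + a u • a) 1, Γ,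
    Finset.card_pos.mp (by omega), fun a ha => ⟨sub_mem (add_mem (one_mem _) (zφ a ha))
      (h.mu_mem (hB a ha).1 (hsq a ha) (heven a ha)), fun g hg => by simp [-Pi.add_apply, r1 g hg], ?_, ?_, ?_,
      fun b hb => ?_⟩, add_mem (one_mem _) (Subring.sum_mem _ zφ), fun g hg => Γ0 g (by omega), ?_, d3, ?_⟩
  · rw [dot_sub_left, d7 a ha 1 (fun _ => rfl), dot_add_left, d1 a ha, dot_one_one]; simp
  · rw [dot_sub_left, d7 a ha Γ Γe, dot_add_left, d4 a ha, dot_comm_of_int (n := 1) (by simpa using d3)]; norm_num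
  · have := h.rho_t 1
    rw [mul_one, r1 1 (by simp)] at this
    have e := φe a ha 1
    rw [mul_one] at e
    beta_reduce
    rw [Pi.sub_apply, Pi.mul_apply, this, e]; ring
  · rw [dot_sub_left, dot_sub_right, dot_sub_right, d7 a ha _ (φe b hb), dot_comm_zero (d7 b hb _ (φe a ha)),
      d5 a ha b hb, d6 a ha b hb]
    split_ifs <;> norm_num
  · nth_rewrite 1 [show Γ = 1 + ∑ θ ∈ B, θ u • θ from rfl]
    rw [dot_add_left, dot_sum_left, Finset.sum_congr rfl d4, dot_comm_of_int (n := 1) (by simpa using d3)]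
    simp [hcard]; norm_num
  funext g
  have R : ∀ g, (∑ ψ ∈ B0 2 H, conj (ψ t) • ψ) g = ∑ ψ ∈ B0 2 H, ψ g * conj (ψ t) := fun g => by simp [mul_comm]
  have o2 := h.orderOf_eq
  rw [R, Pi.sub_apply, Finset.sum_apply]
  simp only [Pi.smul_apply, Pi.sub_apply, Pi.mul_apply, smul_eq_mul]
  rcases h.types g with ⟨h2, h4, h3⟩ | ⟨h2, h4, h3, -⟩ | ⟨h3, h4, -⟩
  · rw [B0_orth Nat.prime_two (sep_of_orderOf (k := 1) Nat.prime_two o2.symm.dvd h2).symm, Γ0 g h3]
    simp [-Pi.add_apply, h4]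
  · have e1 := B0_orth Nat.prime_two (sep_of_orderOf (k := 1) Nat.prime_two o2.symm.dvd h2).symm
    rw [← add_zero (∑ ψ ∈ B0 2 H, ψ g * conj (ψ t)), ← e1, ← Finset.sum_add_distrib,
      split _ fun ψ hψ e => by rw [hodd ψ hψ e]; ring, Γ0 g h3, h4,
      Finset.sum_congr rfl (g := fun a => 2 * (1 + a u * a 1 + a u * a g + a g * a 1)) fun a ha => ?_,
      Finset.sum_congr (s₂ := B) (f := fun a => a g * conj (a t) + a (t * g) * conj (a t)) rfl
        (g := fun a => 2 * (a g * a 1)) fun a ha => ?_]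
    · simp only [← Finset.mul_sum, Finset.sum_add_distrib, Γ1 g h3, Γ1 1 (by simp)]
      simp [hcard]; ring
    · rw [heven a ha, ← mul_one t, heven a ha, IsChar.conj_one (IsIrr.isChar (B0_irr (hB a ha).1))]; ring
    · simp only [Pi.add_apply, Pi.one_apply, Pi.smul_apply, smul_eq_mul]
      linear_combination 2 * a g * a 1 * hsq a ha
  · rw [B0_orth Nat.prime_two (sep_of_orderOf (k := 2) Nat.prime_two h3 (by rw [o2]; norm_num)), hΓ, h4,
      Finset.sum_congr rfl (g := fun a => 2 * (1 + a u * a 1)) fun a ha => by rw [v4 a ha g h3]; simp; ring]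
    simp only [← Finset.mul_sum, Finset.sum_add_distrib, Γ1 1 (by simp)]
    simp [hcard, U, h3]; norm_num

theorem BS_Q8 {G : Type u} [Group G] [Finite G] {t : G} (hodd : ∀ x, ¬ 2 ∣ orderOf (t * (x * t * x⁻¹)))
    {H : Subgroup G} (hH : H = Subgroup.centralizer {t}) {t' u : H} (ht : (t' : G) = t) (h : Q8 t' u) :
    ∃ χ, IsIrrCharacter G χ ∧ χ ≠ 1 ∧ t ∈ cfker χ := by
  obtain ⟨B, W, m, Γ, ⟨a, ha⟩, hW, zΓ, Γ0, Γ4, Γ1, hT⟩ := h.main
  have TI : ∀ (x : G) (a b : H), 2 ∣ orderOf a → 2 ∣ orderOf b → H.subtype b = x⁻¹ * H.subtype a * x →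
      x ∈ H.subtype.range := fun x a b ha hb e => by
    have h1 := congrArg H.subtype (h.half (h.cen a) ha)
    have h2 := congrArg H.subtype (h.half (h.cen b) hb)
    have o : orderOf b = orderOf a := by
      rw [← Subgroup.orderOf_coe, ← Subgroup.orderOf_coe, ← CA.Fi.orderOf_cj x⁻¹ (a : G), inv_inv]
      exact congrArg _ e
    rw [map_pow] at h1 h2
    rw [e, o, ← inv_inv x, inv_inv x⁻¹, conj_pow, h1, inv_inv, Subgroup.subtype_apply, ht, mul_assoc,
      inv_mul_eq_iff_eq_mul] at h2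
    rw [Subgroup.range_subtype, hH]
    exact Subgroup.mem_centralizer_singleton_iff.mpr h2.symm
  have iso : ∀ {θ φ : H → ℂ}, θ ∈ ZIrr H → (∀ g, ¬ 2 ∣ orderOf g → θ g = 0) → (∀ g, ¬ 2 ∣ orderOf g → φ g = 0) →
      ⟪ind H.subtype θ, ind H.subtype φ⟫ = ⟪θ, φ⟫ := fun h1 h2 h3 =>
    dot_ind_TI H.subtype_injective (A := {a | 2 ∣ orderOf a}) (fun x a ha b hb => TI x a b ha hb) (ZIrr.mem_CF h1)
      (fun a ha => by by_contra hn; exact ha (h2 a hn)) (fun a ha => by by_contra hn; exact ha (h3 a hn))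
  have van : ∀ {θ : H → ℂ}, (∀ g, ¬ 2 ∣ orderOf g → θ g = 0) → ∀ g, ¬ 2 ∣ orderOf g → ind H.subtype θ g = 0 :=
    fun h2 g hg => ind_eq_zero fun x hx => h2 x (by rwa [← orderOf_eq_of_isConj hx, Subgroup.subtype_apply,
      Subgroup.orderOf_coe] at hg)
  obtain ⟨zW, W0, W1, WΓ, Wt, WW⟩ := hW a ha
  have zΓ' := ZIrr.ind zΓ H.subtype
  have nΓ : nrm (ind H.subtype Γ - 1) < 4 := by
    rw [nrm_sub_of_dot_one dot_one_one (by rw [dot_ind_one, Γ1]),
      nrm_eq_of_dot (r := 4) (by rw [iso zΓ Γ0 Γ0, Γ4]; simp)]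
    norm_num
  obtain ⟨α, β, hα, hβ, hαβ, α1, β1, e, hc⟩ : ∃ α β, Dirr α ∧ Dirr β ∧ ⟪α, β⟫ = 0 ∧ ⟪α, 1⟫ = 0 ∧ ⟪β, 1⟫ = 0 ∧
      ind H.subtype (W a) = 1 + α + β ∧ ⟪ind H.subtype Γ, β⟫ = 0 := by
    obtain ⟨α, β, hα, hβ, hαβ, α1, β1, e⟩ := decomp_three (ZIrr.ind zW H.subtype)
      (by rw [iso zW W0 W0, WW a ha, if_pos rfl]) (by rw [dot_ind_one, W1])
    have h2 := dot_comm_of_int (n := 2) ((iso zW W0 Γ0).trans (by simpa using WΓ))
    rw [e, dot_add_right, dot_add_right, dot_ind_one, Γ1] at h2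
    have c1 := ZIrr.dot_cases_of_nrm_lt_four (sub_mem zΓ' (one_mem _)) nΓ hα
    have c2 := ZIrr.dot_cases_of_nrm_lt_four (sub_mem zΓ' (one_mem _)) nΓ hβ
    rw [dot_sub_left, dot_comm_zero α1, sub_zero] at c1
    rw [dot_sub_left, dot_comm_zero β1, sub_zero] at c2
    by_cases h3 : ⟪ind H.subtype Γ, β⟫ = 0
    · exact ⟨α, β, hα, hβ, hαβ, α1, β1, e, h3⟩
    · refine ⟨β, α, hβ, hα, dot_comm_zero hαβ, β1, α1, by rw [e]; abel, ?_⟩
      rcases c1 with c1 | c1 | c1 <;> rcases c2 with c2 | c2 | c2 <;> rw [c1, c2] at h2 <;>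
        first | exact c1 | exact absurd c2 h3 | norm_num at h2
  have h0 : ∀ g, ¬ 2 ∣ orderOf g → 1 + α g + β g = 0 := fun g hg => by
    simpa [e] using van W0 g hg
  have Wβ : ∀ b ∈ B, ⟪ind H.subtype (W b), β⟫ = if b = a then 1 else 0 := fun b hb => by
    split_ifs with hba
    · rw [hba, e, dot_add_left, dot_add_left, dot_comm_zero β1, hαβ, hβ.dot_self]; simp
    obtain ⟨zW', W0', W1', WΓ', -, WW'⟩ := hW b hb
    have h2 := (iso zW' W0' W0).trans (WW' a ha)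
    rw [if_neg hba, e, dot_add_right, dot_add_right, dot_ind_one, W1'] at h2
    have h3 := (iso zW' W0' Γ0).trans WΓ'
    have d0 := van W0' 1 (by simp)
    have d1 := h0 1 (by simp)
    by_contra hn
    have key : ∀ s : ℂ, (s = 1 ∨ s = -1) → ⟪ind H.subtype (W b), β⟫ = s → False := fun s hs h4 => by
      have h5 : ⟪ind H.subtype (W b), α⟫ = -s := by rw [h4] at h2; linear_combination h2
      have ss : conj s = s ∧ s * s = 1 := by rcases hs with rfl | rfl <;> simp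
      have h6 : ind H.subtype (W b) - (1 + s • β - s • α) = 0 := by
        have c1 : ⟪1, ind H.subtype (W b)⟫ = 1 := by rw [← conj_dot, dot_ind_one, W1', map_one]
        have c2 : ⟪β, ind H.subtype (W b)⟫ = s := by rw [← conj_dot, h4, ss.1]
        have c3 : ⟪α, ind H.subtype (W b)⟫ = -s := by rw [← conj_dot, h5, map_neg, ss.1]
        rw [← dot_self_eq_zero]
        simp only [dot_sub_left, dot_sub_right, dot_add_left, dot_add_right, dot_smul_left, dot_smul_right,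
          iso zW' W0' W0', WW' b hb, dot_ind_one, W1', h4, h5, hα.dot_self, hβ.dot_self, hαβ, dot_comm_zero hαβ,
          α1, β1, dot_comm_zero α1, dot_comm_zero β1, dot_one_one, ss.1, c1, c2, c3, if_true]
        linear_combination (-2) * ss.2
      rw [sub_eq_zero] at h6
      rw [h6] at d0 h3
      simp only [dot_sub_left, dot_add_left, dot_smul_left, dot_comm_zero hc,
        dot_comm_of_int (n := 1) ((dot_ind_one _ _).trans (by simpa using Γ1))] at h3
      have h7 := (iso zW W0 Γ0).trans WΓ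
      simp only [e, dot_add_left, dot_comm_zero hc,
        dot_comm_of_int (n := 1) ((dot_ind_one _ _).trans (by simpa using Γ1))] at h7
      have h8 : ⟪α, ind H.subtype Γ⟫ = 1 := by push_cast at h7; linear_combination h7
      have h9 : s = -1 := by rw [h8] at h3; push_cast at h3; linear_combination -h3
      simp only [h9, Pi.sub_apply, Pi.add_apply, Pi.smul_apply, Pi.one_apply, smul_eq_mul] at d0
      exact hβ.deg_ne_zero (by linear_combination (1 / 2) * d1 - (1 / 2) * d0)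
    have zW'' := ZIrr.ind zW' H.subtype
    rcases ZIrr.dot_cases_of_nrm_lt_four zW'' (by
      rw [nrm_eq_of_dot (r := 3) (by rw [iso zW' W0' W0', WW' b hb]; simp)]; norm_num) hβ with c | c | c
    · exact key _ (Or.inr rfl) c
    · exact hn c
    · exact key _ (Or.inl rfl) c
  have h1 : ⟪ind H.subtype (∑ a ∈ B, m a • W a - Γ), β⟫ = m a := by
    rw [map_sub, map_sum, dot_sub_left, hc, dot_sum_left]
    simp only [map_smul, dot_smul_left]
    rw [Finset.sum_congr rfl fun b hb => by rw [Wβ b hb]]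
    simp [ha]
  have h2 : m a = conj (proj (B0 2 G) β t') := by
    rw [← h1, hT, frob_rec _ _ (ZIrr.mem_CF hβ.mem_ZIrr), second_main (k := 1) Nat.prime_two
      (by rw [← ht, pow_one, pow_two]; exact congrArg Subtype.val h.tt) hH (ZIrr.mem_CF hβ.mem_ZIrr) t'
      (ht ▸ Subgroup.mem_zpowers _), proj_apply, dot_sum_left, map_sum]
    exact Finset.sum_congr rfl fun ψ _ => by rw [dot_smul_left, map_mul, conj_dot, mul_comm]
  have h3 : 1 + α t + β t = 2 * m a := by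
    have := ind_apply_TI H.subtype_injective (ZIrr.mem_CF zW) t' fun x b hb =>
      TI x t' b h.orderOf_eq.symm.dvd (by by_contra hn; exact hb (W0 b hn))
    rw [e, Wt, Subgroup.subtype_apply, ht] at this
    simpa using this
  have h4 : conj (β t) = β t := by
    rw [← ZIrr.apply_inv hβ.mem_ZIrr, ← ht, ← Subgroup.coe_inv, inv_eq_of_mul_eq_one_right h.tt]
  refine end_lemma hodd hα hβ α1 h0 ?_
  have : proj (B0 2 G) β = β ∨ proj (B0 2 G) β = 0 := by
    rcases hβ with hβ | hβ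
    · rw [proj_irr (B0_subset 2) hβ]; split_ifs <;> simp
    · have := proj_irr (B0_subset 2) hβ
      rw [map_neg, neg_eq_iff_eq_neg] at this
      rw [this]; split_ifs <;> simp
  rcases this with e | e <;> rw [e] at h2
  · rw [ht, h4] at h2
    rw [show β t = 1 + α t by linear_combination -2 * h2 - h3]
  · rw [show β t = -(1 + α t) by simp at h2; linear_combination h3 + 2 * h2]; ring

end CA.Blk
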