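import Cfsg.Agent.Char.Aut
import Cfsg.Agent.Char.Ker

/-!
# Valuations on `ℂ` above a prime; phase functions; the trace lemma
-/

set_option autoImplicit false

open scoped ComplexConjugate

namespace CA.Blk

variable {Γ : Type*} [LinearOrderedCommGroupWithZero Γ] (v : Valuation ℂ Γ) {p : ℕ}

theorem exists_val (hp : p.Prime) : ∃ V : ValuationSubring ℂ, V.valuation (p : ℂ) < 1 := by
  have hx : ((p : ℂ))⁻¹ ∉ (integralClosure ℤ ℂ).toSubring := by
    intro h
    have h0 : IsIntegral ℤ ((p : ℂ))⁻¹ := h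
    have h' : IsIntegral ℤ (((1 : ℤ) : ℂ) / ((p : ℤ) : ℂ)) := by simpa using h0
    have := CA.Chr.int_dvd_of_isIntegral_div (by exact_mod_cast hp.ne_zero) h'
    exact hp.ne_one (by exact_mod_cast Int.eq_one_of_dvd_one (by positivity) this)
  haveI : IsIntegrallyClosedIn (integralClosure ℤ ℂ).toSubring ℂ :=
    inferInstanceAs (IsIntegrallyClosedIn (integralClosure ℤ ℂ) ℂ)
  obtain ⟨V, -, hV⟩ := Subring.exists_le_valuationSubring_of_isIntegrallyClosedIn hx
  refine ⟨V, ?_⟩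
  rw [← V.valuation_le_one_iff, not_le, map_inv₀] at hV
  exact (one_lt_inv₀ (zero_lt_iff.mpr (by simpa using hp.ne_zero))).mp hV

theorem isIntegral_of_forall_val {z : ℂ} (h : ∀ V : ValuationSubring ℂ, V.valuation z ≤ 1) :
    IsIntegral ℤ z := by
  by_contra hx
  haveI : IsIntegrallyClosedIn (integralClosure ℤ ℂ).toSubring ℂ :=
    inferInstanceAs (IsIntegrallyClosedIn (integralClosure ℤ ℂ) ℂ)
  obtain ⟨V, -, hV⟩ := Subring.exists_le_valuationSubring_of_isIntegrallyClosedIn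
    (R := (integralClosure ℤ ℂ).toSubring) (x := z) hx
  exact hV ((V.valuation_le_one_iff z).mp (h V))

theorem val_int_le (n : ℤ) : v (n : ℂ) ≤ 1 := (intCast_mem v.integer n)

theorem val_nat_le (n : ℕ) : v (n : ℂ) ≤ 1 := (natCast_mem v.integer n)

theorem val_le_of_integral {z : ℂ} (h : IsIntegral ℤ z) : v z ≤ 1 :=
  (Valuation.integer.integers v).isIntegral_iff_v_le_one.mp (h.tower_top (A := v.integer))

variable {v}

theorem val_mul_le {a b : ℂ} (ha : v a ≤ 1) (hb : v b ≤ 1) : v (a * b) ≤ 1 := by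
  rw [map_mul]; exact mul_le_one' ha hb

theorem val_mul_lt {a b : ℂ} (ha : v a ≤ 1) (hb : v b < 1) : v (a * b) < 1 := by
  rw [map_mul]; exact mul_lt_one_of_nonneg_of_lt_one_right ha zero_le hb

theorem val_mul_lt' {a b : ℂ} (ha : v a < 1) (hb : v b ≤ 1) : v (a * b) < 1 := by
  rw [mul_comm]; exact val_mul_lt hb ha

theorem val_add_le {a b : ℂ} (ha : v a ≤ 1) (hb : v b ≤ 1) : v (a + b) ≤ 1 := v.map_add_le ha hb
theorem val_sub_le {a b : ℂ} (ha : v a ≤ 1) (hb : v b ≤ 1) : v (a - b) ≤ 1 := v.map_sub_le ha hb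
theorem val_add_lt {a b : ℂ} (ha : v a < 1) (hb : v b < 1) : v (a + b) < 1 := v.map_add_lt ha hb
theorem val_sub_lt {a b : ℂ} (ha : v a < 1) (hb : v b < 1) : v (a - b) < 1 := v.map_sub_lt ha hb

theorem val_sum_le {ι : Type*} {s : Finset ι} {f : ι → ℂ} (h : ∀ i ∈ s, v (f i) ≤ 1) :
    v (∑ i ∈ s, f i) ≤ 1 := v.map_sum_le h

theorem val_sum_lt {ι : Type*} {s : Finset ι} {f : ι → ℂ} (h : ∀ i ∈ s, v (f i) < 1) :
    v (∑ i ∈ s, f i) < 1 := v.map_sum_lt one_ne_zero h

theorem val_eq_one_of_sub {a b : ℂ} (hb : v b = 1) (h : v (a - b) < 1) : v a = 1 := by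
  have := v.map_add_eq_of_lt_right (x := a - b) (y := b) (by rwa [hb])
  rwa [sub_add_cancel, hb] at this

theorem val_ne_zero {a : ℂ} (h : v a = 1) : a ≠ 0 := by
  rintro rfl; simp at h

theorem val_inv {a : ℂ} (h : v a = 1) : v a⁻¹ = 1 := by rw [map_inv₀, h, inv_one]

theorem val_nat_eq_one (hp : p.Prime) (hv : v p < 1) {n : ℕ} (h : ¬ p ∣ n) : v n = 1 := by
  refine le_antisymm (val_nat_le v n) (not_lt.mp fun hn => ?_)
  have hc : IsCoprime (p : ℤ) n := Nat.isCoprime_iff_coprime.mpr ((Nat.Prime.coprime_iff_not_dvd hp).mpr h)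
  obtain ⟨a, b, e⟩ := hc
  have e' : (a : ℂ) * p + b * n = 1 := by exact_mod_cast congrArg (Int.cast : ℤ → ℂ) e
  have := val_add_lt (val_mul_lt (val_int_le v a) hv) (val_mul_lt (val_int_le v b) hn)
  rw [e'] at this
  simp at this

theorem val_root_sub_one (hp : p.Prime) (hv : v p < 1) {ζ : ℂ} {k : ℕ} (h : ζ ^ p ^ k = 1) :
    v (ζ - 1) < 1 := by
  have hz : v ζ ≤ 1 := val_le_of_integral v (CA.Chr.isIntegral_of_pow_eq_one (pow_ne_zero k hp.ne_zero) h)
  let a : v.integer := ⟨ζ - 1, val_sub_le hz (by simp)⟩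
  obtain ⟨r, hr⟩ := exists_add_pow_prime_pow_eq hp a 1 k
  have e : ζ ^ p ^ k = (ζ - 1) ^ p ^ k + 1 + p * (ζ - 1) * r := by
    have := congrArg Subtype.val hr
    simpa [a] using this
  have e2 : (ζ - 1) ^ p ^ k = -(p * (ζ - 1) * r) := by
    rw [h] at e; linear_combination -e
  have : v ((ζ - 1) ^ p ^ k) < 1 := by
    rw [e2, Valuation.map_neg]
    exact val_mul_lt' (val_mul_lt' hv a.2) r.2
  rw [map_pow] at this
  exact lt_of_not_ge fun hh => absurd (one_le_pow_of_one_le' hh _) (not_le.mpr this)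

theorem eq_zero_of_small {X : Type*} [Fintype X] (w : X → ℂ) (M : X → X → ℂ)
    (hM : ∀ a b, v (M a b) < 1) (h : ∀ a, w a + ∑ b, M a b * w b = 0) : w = 0 := by
  by_contra hw
  obtain ⟨a0, ha0⟩ := Function.ne_iff.mp hw
  obtain ⟨a, -, ha⟩ := Finset.exists_max_image Finset.univ (fun a => v (w a)) ⟨a0, Finset.mem_univ _⟩
  have h0 : v (w a) ≠ 0 := fun e => ha0 (by
    have := ha a0 (Finset.mem_univ _)
    rw [e, le_zero_iff] at this
    simpa using this)
  have e : w a = -∑ b, M a b * w b := by linear_combination h a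
  have : v (∑ b, M a b * w b) < v (w a) := v.map_sum_lt h0 fun b _ => by
    rw [map_mul]
    calc v (M a b) * v (w b) ≤ v (M a b) * v (w a) := mul_le_mul_right (ha b (Finset.mem_univ _)) _
    _ < 1 * v (w a) := mul_lt_mul_of_pos_right (hM a b) (zero_lt_iff.mpr h0)
    _ = _ := one_mul _
  rw [← Valuation.map_neg, ← e] at this
  exact lt_irrefl _ this

theorem isUnit_matrix {X : Type*} [Fintype X] [DecidableEq X] (U : Matrix X X ℂ)
    (h : ∀ a b, v ((U - 1) a b) < 1) : IsUnit U := by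
  rw [← Matrix.mulVec_injective_iff_isUnit]
  refine (injective_iff_map_eq_zero (Matrix.mulVecLin U)).mpr fun w hw => ?_
  refine eq_zero_of_small w (fun a b => (U - 1) a b) h fun a => ?_
  have : ((U - 1).mulVec w) a = (U.mulVec w) a - w a := by rw [Matrix.sub_mulVec, Matrix.one_mulVec]; rfl
  have h2 : (U.mulVec w) a = 0 := congrFun hw a
  rw [h2] at this
  change w a + ((U - 1).mulVec w) a = 0
  rw [this]; ring

/-- `a` is a point whose stabiliser in the group generated by `π` consists of `p`-th powers -/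
def Free (p : ℕ) {X : Type*} (π : Equiv.Perm X) (a : X) : Prop := ∀ i : ℕ, (π ^ i) a = a → p ∣ i

theorem Free.int {X : Type*} {π : Equiv.Perm X} {a : X} (h : Free p π a) (i : ℤ) (e : (π ^ i) a = a) :
    (p : ℤ) ∣ i := by
  rw [Int.natCast_dvd]
  refine h _ ?_
  rcases Int.natAbs_eq i with h1 | h1
  · rw [← zpow_natCast, ← h1, e]
  · rw [h1, zpow_neg, zpow_natCast, Equiv.Perm.inv_eq_iff_eq] at e
    exact e.symm

theorem free_apply {X : Type*} {π : Equiv.Perm X} {a : X} : Free p π (π a) ↔ Free p π a := by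
  refine forall_congr' fun i => imp_congr_left ?_
  rw [← Equiv.Perm.mul_apply, ← pow_succ, pow_succ', Equiv.Perm.mul_apply, π.injective.eq_iff]

theorem exists_phase (hp : p.Prime) (hv : v p < 1) {X : Type*} (π : Equiv.Perm X) :
    ∃ (ζ : ℂ) (φ : X → ℂ), ζ ≠ 1 ∧ ζ ≠ 0 ∧ (∀ a, φ (π a) = ζ * φ a) ∧ (∀ a, v (φ a) ≤ 1) ∧
      ∀ a, Free p π a → v (φ a - 1) < 1 := by
  classical
  obtain ⟨ζ, hζ⟩ : ∃ ζ : ℂ, IsPrimitiveRoot ζ p := ⟨_, Complex.isPrimitiveRoot_exp p hp.ne_zero⟩
  have z0 : ζ ≠ 0 := hζ.ne_zero hp.ne_zero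
  let S : Setoid X := Equiv.Perm.SameCycle.setoid π
  have hr : ∀ a : X, ∃ i : ℤ, (π ^ i) (Quotient.mk S a).out = a := fun a => Quotient.mk_out (s := S) a
  choose i hi using hr
  have hpow : ∀ j : ℤ, (ζ ^ j) ^ p ^ 1 = 1 := fun j => by
    rw [pow_one, ← zpow_natCast, ← zpow_mul, mul_comm, zpow_mul, zpow_natCast, hζ.pow_eq_one, one_zpow]
  refine ⟨ζ, fun a => if Free p π a then ζ ^ i a else 0, hζ.ne_one hp.one_lt, z0, fun a => ?_,
    fun a => ?_, fun a ha => ?_⟩
  · simp only [free_apply]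
    split_ifs with ha
    · have e : Quotient.mk S (π a) = Quotient.mk S a :=
        Quotient.sound (show π.SameCycle (π a) a by simp [Equiv.Perm.SameCycle.rfl])
      have h1 := hi (π a)
      rw [e] at h1
      have h2 : (π ^ (i (π a) - 1 - i a)) a = a := by
        have h3 := hi a
        generalize (Quotient.mk S a).out = r at h1 h3
        calc (π ^ (i (π a) - 1 - i a)) a = (π ^ (i (π a) - 1 - i a)) ((π ^ i a) r) := by rw [h3]
        _ = a := by
          rw [← Equiv.Perm.mul_apply, ← zpow_add, sub_add_cancel, sub_eq_neg_add, zpow_add,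
            Equiv.Perm.mul_apply, h1]
          simp
      obtain ⟨c, hc⟩ := ha.int _ h2
      have : i (π a) = p * c + (1 + i a) := by linarith
      rw [this, zpow_add₀ z0, zpow_add₀ z0, zpow_mul, zpow_natCast, hζ.pow_eq_one]
      simp
    · simp
  · simp only
    split_ifs
    · exact val_le_of_integral v (CA.Chr.isIntegral_of_pow_eq_one (pow_ne_zero 1 hp.ne_zero) (hpow _))
    · simp
  · simp only [if_pos ha]
    exact val_root_sub_one hp hv (hpow _)

theorem val_sum_free (hp : p.Prime) (hv : v p < 1) {X : Type*} [Fintype X] (π : Equiv.Perm X)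
    (F : X → ℂ) (h1 : ∀ a, F (π a) = F a) (h2 : ∀ a, v (F a) ≤ 1) (h3 : ∀ a, F a ≠ 0 → Free p π a) :
    v (∑ a, F a) < 1 := by
  obtain ⟨ζ, φ, z1, -, hφ, -, hφ1⟩ := exists_phase hp hv π
  have e : ∑ a, φ a * F a = 0 := by
    have : ∑ a, φ a * F a = ζ * ∑ a, φ a * F a := by
      conv_lhs => rw [← Equiv.sum_comp π]
      simp only [hφ, h1, Finset.mul_sum, mul_assoc]
    have h : (1 - ζ) * ∑ a, φ a * F a = 0 := by linear_combination this
    exact (mul_eq_zero.mp h).resolve_left (sub_ne_zero.mpr z1.symm)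
  have : ∑ a, F a = ∑ a, -((φ a - 1) * F a) := by
    rw [← sub_zero (∑ a, F a), ← e, ← Finset.sum_sub_distrib]
    exact Finset.sum_congr rfl fun a _ => by ring
  rw [this]
  refine val_sum_lt fun a _ => ?_
  rw [Valuation.map_neg]
  by_cases h : F a = 0
  · simp [h]
  · exact val_mul_lt' (hφ1 a (h3 a h)) (h2 a)

theorem trace_zero {R : Type*} [Ring R] [Algebra ℂ R] (τ : R →ₗ[ℂ] ℂ) (hτ : ∀ a b, τ (a * b) = τ (b * a))
    {g f b : R} {ζ : ℂ} (hζ : ζ ≠ 1) (hf : f * f = f) (hgf : g * f = f * g)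
    (hb : b * g = ζ • (g * b)) (hu : IsUnit (f * b * f + 1 - f)) : τ (g * f) = 0 := by
  obtain ⟨u, hu⟩ := hu
  have e1 : (u : R) * f = f * b * f := by
    rw [hu, sub_mul, add_mul, mul_assoc _ f f, hf]; simp
  have e2 : f * (u : R) = f * b * f := by
    rw [hu, mul_sub, mul_add, ← mul_assoc, ← mul_assoc, hf]; simp
  have e3 : f * b * f * (u⁻¹ : Rˣ) = f := by rw [← e2, Units.mul_inv_cancel_right]
  have e4 : (u⁻¹ : Rˣ) * (f * b * f) = f := by rw [← e1, Units.inv_mul_cancel_left]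
  have e5 : f * b * f * g = ζ • (g * (f * b * f)) := by
    rw [mul_assoc, ← hgf, ← mul_assoc, mul_assoc f b, hb, mul_smul_comm, smul_mul_assoc, ← mul_assoc f g,
      ← hgf]
    simp only [mul_assoc]
  have : τ (g * f) = ζ * τ (g * f) := by
    calc τ (g * f) = τ (g * ((u⁻¹ : Rˣ) * (f * b * f))) := by rw [e4]
    _ = τ (f * b * f * g * (u⁻¹ : Rˣ)) := by rw [← mul_assoc, hτ, ← mul_assoc]
    _ = ζ * τ (g * (f * b * f * (u⁻¹ : Rˣ))) := by
      rw [e5, smul_mul_assoc, map_smul, smul_eq_mul, mul_assoc g]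
    _ = _ := by rw [e3]
  have h : (1 - ζ) * τ (g * f) = 0 := by linear_combination this
  exact (mul_eq_zero.mp h).resolve_left (sub_ne_zero.mpr hζ.symm)

/-- an integral idempotent matrix commuting with a permutation all of whose points are free -/
theorem trace_perm_zero (hp : p.Prime) (hv : v p < 1) {X : Type*} [Fintype X] [DecidableEq X]
    (π : Equiv.Perm X) (hπ : ∀ a, Free p π a) (E : Matrix X X ℂ) (hE : E * E = E)
    (hi : ∀ a b, v (E a b) ≤ 1) (hc : ∀ a b, E (π a) (π b) = E a b) : ∑ a, E a (π a) = 0 := by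
  obtain ⟨ζ, φ, z1, -, hφ, -, hφ1⟩ := exists_phase hp hv π
  let P : Matrix X X ℂ := Matrix.of fun a b => if a = π b then 1 else 0
  have hP : ∀ (M : Matrix X X ℂ) a b, (M * P) a b = M a (π b) := fun M a b => by
    simp [P, Matrix.mul_apply]
  have hP' : ∀ (M : Matrix X X ℂ) a b, (P * M) (π a) b = M a b := fun M a b => by
    simp [P, Matrix.mul_apply, eq_comm]
  have := trace_zero (Matrix.traceLinearMap X ℂ ℂ) (fun a b => Matrix.trace_mul_comm a b)
    (g := P) (f := E) (b := Matrix.diagonal φ) z1 hE ?_ ?_ (isUnit_matrix (v := v) _ fun a b => ?_)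
  · rw [Matrix.traceLinearMap_apply, Matrix.trace_mul_comm] at this
    rw [← this]
    simp [Matrix.trace, hP]
  · ext a b
    obtain ⟨a, rfl⟩ := π.surjective a
    rw [hP, hP', hc]
  · ext a b
    obtain ⟨a, rfl⟩ := π.surjective a
    rw [Matrix.smul_apply, hP, hP', Matrix.diagonal_apply, Matrix.diagonal_apply]
    by_cases h : a = b <;> simp [h, hφ]
  · have e : E * Matrix.diagonal φ * E + 1 - E - 1 = E * Matrix.diagonal (fun a => φ a - 1) * E := by
      have : Matrix.diagonal (fun a => φ a - 1) = Matrix.diagonal φ - 1 := by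
        rw [← Matrix.diagonal_one, Matrix.diagonal_sub]
      rw [this, mul_sub, sub_mul, mul_one, hE]; abel
    rw [e, Matrix.mul_apply]
    refine val_sum_lt fun c _ => ?_
    rw [Matrix.mul_diagonal]
    exact val_mul_lt' (val_mul_lt (hi _ _) (hφ1 _ (hπ _))) (hi _ _)

end CA.Blk
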