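import Cfsg.Agent.Blk.Q8b
import Cfsg.Prelude.Def_IsolatedElements

/-!
# Glauberman's Z*-theorem
-/

set_option autoImplicit false
set_option linter.unusedSectionVars false

open scoped ComplexConjugate commutatorElement

open Cfsg CA.Chr CA.FG

namespace CA.Blk

universe u

variable {G : Type u} [Group G] [Finite G]

theorem odd_of_iso {t : G} (tt : t * t = 1) (hiso : ∀ g : G, Commute t (g * t * g⁻¹) → g * t * g⁻¹ = t) (x : G) :
    ¬ 2 ∣ orderOf (t * (x * t * x⁻¹)) := fun d => by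
  have ss : x * t * x⁻¹ * (x * t * x⁻¹) = 1 := by rw [conj_mul, tt]; simp
  obtain ⟨k, h1, h2⟩ := CA.Fi.dih_exists_of_even (even_iff_two_dvd.mpr d)
  have c := (CA.Fi.dih_commute tt ss h1).1
  have : IsConj t (t * (t * (x * t * x⁻¹)) ^ k) := by
    rcases CA.Fi.dih_isConj_or tt ss k with h | h
    · exact h
    · exact (isConj_iff.mpr ⟨x, rfl⟩).trans h
  obtain ⟨g, hg⟩ := isConj_iff.mp this
  have := hiso g (hg ▸ (Commute.refl t).mul_right c)
  rw [hg] at this
  exact h2 (mul_eq_left.mp this)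

theorem eq_one_of_odd {g : G} {k : ℕ} (h : ¬ 2 ∣ orderOf g) (h2 : g ^ 2 ^ k = 1) : g = 1 :=
  orderOf_eq_one_iff.mp (Nat.eq_one_of_dvd_coprimes (Nat.Coprime.pow_left k
    ((Nat.Prime.coprime_iff_not_dvd Nat.prime_two).mpr h)) (orderOf_dvd_of_pow_eq_one h2) dvd_rfl)

theorem iso_map {Q : Type*} [Group Q] [Finite Q] (f : G →* Q) (hf : Function.Surjective f) {t : G} (tt : t * t = 1)
    (hiso : ∀ g : G, Commute t (g * t * g⁻¹) → g * t * g⁻¹ = t) (q : Q) (c : Commute (f t) (q * f t * q⁻¹)) :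
    q * f t * q⁻¹ = f t := by
  obtain ⟨g, rfl⟩ := hf q
  have tt' : f t * f t = 1 := by rw [← map_mul, tt, map_one]
  have := eq_one_of_odd (g := f t * (f g * f t * (f g)⁻¹)) (k := 1) (fun d => odd_of_iso tt hiso g (d.trans (by
    simpa using orderOf_map_dvd f (t * (g * t * g⁻¹))))) (by
      rw [pow_one, c.mul_pow, conj_pow, pow_two, tt']; simp)
  rw [← inv_eq_of_mul_eq_one_right this, inv_eq_of_mul_eq_one_right tt']

theorem fuse_four {t : G} (h : Uniq t) (S : Sylow 2 G) (hS : Nat.card S = 8)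
    (h4 : ∀ x ∈ (S : Subgroup G), x = 1 ∨ x = t ∨ x * x = t) (hp : commutator G = ⊤) {a a' : G}
    (ha : a ∈ (S : Subgroup G)) (ha' : a' ∈ (S : Subgroup G)) (e : a * a = t) (e' : a' * a' = t) : IsConj a a' := by
  have idx : ∀ a ∈ (S : Subgroup G), a * a = t → ((Subgroup.zpowers a).subgroupOf S).index = 2 := fun a ha e => by
    have := ((Subgroup.zpowers a).subgroupOf S).card_mul_index
    rw [Nat.card_congr (Subgroup.subgroupOfEquivOfLe (Subgroup.zpowers_le.mpr ha)).toEquiv, Nat.card_zpowers,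
      h.orderOf_four e, show Nat.card (S : Subgroup G) = 8 from hS] at this
    omega
  have F1 : ∀ a ∈ (S : Subgroup G), a * a = t → ∀ x ∈ (S : Subgroup G), ∀ y ∈ (S : Subgroup G),
      (x ∈ Subgroup.zpowers a ↔ y ∈ Subgroup.zpowers a) → x⁻¹ * y ∈ Subgroup.zpowers a := fun a ha e x hx y hy hh =>
    (Subgroup.mul_mem_iff_of_index_two (idx a ha e) (a := ⟨x, hx⟩⁻¹) (b := ⟨y, hy⟩)).mpr (by
      simpa [Subgroup.mem_subgroupOf] using hh)
  have F2 : ∀ a, a * a = t → ∀ x ∈ (S : Subgroup G), x ∉ Subgroup.zpowers a → x * x = t := fun a e x hx hn => by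
    have m := Subgroup.mem_zpowers a
    rcases h4 x hx with rfl | rfl | h1
    · exact absurd (one_mem _) hn
    · exact absurd (e ▸ mul_mem m m) hn
    · exact h1
  have F3 : ∀ a ∈ (S : Subgroup G), a * a = t → ∀ x ∈ Subgroup.zpowers a, x * x = t → IsConj a x := by
    intro a ha e x hx ex
    have c : Commute a x := by obtain ⟨n, rfl⟩ := hx; exact (Commute.refl a).zpow_right n
    rcases h.mem_of_sq e ex c with rfl | rfl
    · exact IsConj.refl _
    obtain ⟨b, hb⟩ : ∃ b : S, b ∉ (Subgroup.zpowers a).subgroupOf S := by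
      by_contra hn
      push Not at hn
      have := idx a ha e
      rw [(Subgroup.eq_top_iff' _).mpr hn, Subgroup.index_top] at this
      omega
    have e1 := F2 a e b b.2 hb
    have e2 := F2 a e (b * a) (mul_mem b.2 ha) (by
      rwa [Subgroup.mul_mem_cancel_right _ (Subgroup.mem_zpowers a)])
    refine isConj_iff.mpr ⟨b, ?_⟩
    calc b * a * (b : G)⁻¹ = b * a * (b * a) * a⁻¹ * ((b : G) * b)⁻¹ := by group
    _ = a⁻¹ := by rw [e1, e2, ← e]; group
  have F4 : ∀ a ∈ (S : Subgroup G), a * a = t → ∃ b ∈ (S : Subgroup G), b ∉ Subgroup.zpowers a ∧ IsConj a b := by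
    intro a ha e
    by_contra hn
    push Not at hn
    have key : ∀ x ∈ Subgroup.zpowers a, ∀ y ∈ (S : Subgroup G), IsConj x y → y ∈ Subgroup.zpowers a := by
      intro x hx y hy c
      by_contra hy'
      have o := (orderOf_eq_of_isConj c).trans (h.orderOf_four (F2 a e y hy hy'))
      rcases h4 x (Subgroup.zpowers_le.mpr ha hx) with rfl | rfl | h1
      · simp at o
      · rw [h.orderOf_eq] at o; omega
      · exact hn y hy hy' ((F3 a ha e x hx h1).trans c)
    have : (S : Subgroup G) ⊓ ⁅(⊤ : Subgroup G), ⊤⁆ ≤ Subgroup.zpowers a := by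
      rw [CA.BG.focal_subgroup_gen Nat.prime_two (sylow_top Nat.prime_two S), Subgroup.closure_le]
      rintro _ ⟨x, hx, g, -, hg, rfl⟩
      have c : IsConj x (g * x * g⁻¹) := isConj_iff.mpr ⟨g, rfl⟩
      exact F1 a ha e x hx _ hg ⟨fun h => key x h _ hg c, fun h => key _ h x hx c.symm⟩
    rw [← commutator_def, hp, inf_top_eq] at this
    have h2 := idx a ha e
    rw [Subgroup.subgroupOf_eq_top.mpr this, Subgroup.index_top] at h2
    omega
  by_cases h0 : a' ∈ Subgroup.zpowers a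
  · exact F3 a ha e a' h0 e'
  obtain ⟨b, hb, b1, b2⟩ := F4 a ha e
  obtain ⟨b', hb', b1', b2'⟩ := F4 a' ha' e'
  by_cases h1 : b ∈ Subgroup.zpowers a'
  · exact b2.trans (F3 a' ha' e' b h1 (F2 a e b hb b1)).symm
  by_cases h2 : b' ∈ Subgroup.zpowers a
  · exact (F3 a ha e b' h2 (F2 a' e' b' hb' b1')).trans b2'.symm
  have m1 := F1 a ha e b hb b' hb' (by tauto)
  have m2 := F1 a' ha' e' b hb b' hb' (by tauto)
  have eb := F2 a e b hb b1
  refine b2.trans ((F3 b hb eb b' ?_ (F2 a e b' hb' h2)).trans b2'.symm)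
  have mb := Subgroup.mem_zpowers b
  rcases h4 _ (mul_mem (inv_mem hb) hb') with h3 | h3 | h3
  · rwa [← inv_mul_eq_one.mp h3]
  · rw [inv_mul_eq_iff_eq_mul.mp h3, ← eb]; exact mul_mem mb (mul_mem mb mb)
  · refine absurd ?_ h0
    have c : Commute a' (b⁻¹ * b') := by obtain ⟨n, hn⟩ := m2; rw [← hn]; exact (Commute.refl a').zpow_right n
    rcases h.mem_of_sq e' h3 c with h5 | h5
    · rwa [← h5]
    · rwa [← inv_mem_iff, ← h5]

/-- the Brauer-Suzuki theorem in a minimal situation -/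
theorem BS_core {t : G} (h : Uniq t) (hodd : ∀ x, ¬ 2 ∣ orderOf (t * (x * t * x⁻¹)))
    (hN : Subgroup.normalClosure ({t} : Set G) = ⊤)
    (hO : ∀ K : Subgroup G, K.Normal → IsPiGrp {2}ᶜ K → K = ⊥) :
    (∀ x, x * t * x⁻¹ = t) ∨ ∃ χ, IsIrrCharacter G χ ∧ χ ≠ 1 ∧ t ∈ cfker χ := by
  have ti : t⁻¹ = t := inv_eq_of_mul_eq_one_right h.tt
  obtain ⟨S, hS⟩ := (CA.Fi.isPGroup_zpowers_of_orderOf (p := 2) (k := 1) h.orderOf_eq).exists_le_sylow
  have tS : t ∈ (S : Subgroup G) := hS (Subgroup.mem_zpowers t)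
  have cS : ∀ g ∈ (S : Subgroup G), Commute t g := fun g hg => by
    obtain ⟨k, hk⟩ := S.2 ⟨_, mul_mem tS (mul_mem (mul_mem hg tS) (inv_mem hg))⟩
    have := eq_inv_of_mul_eq_one_right (eq_one_of_odd (hodd g) (congrArg Subtype.val hk))
    rw [ti, mul_inv_eq_iff_eq_mul] at this
    exact this.symm
  have uS : ∀ s : S, s * s = 1 → s ≠ 1 → (s : G) = t := fun s h1 h2 =>
    (h.uq s (congrArg Subtype.val h1) (cS s s.2)).resolve_left fun e => h2 (Subtype.ext e)
  rcases two_struct S.2 fun s s' h1 h2 n1 n2 => Subtype.ext ((uS s h1 n1).trans (uS s' h2 n2).symm) with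
    hc | ⟨m, c, y, hm, ho, hy, gen, h1, h2⟩
  · obtain ⟨K, nK, oK, -, hK⟩ := exists_npc Nat.prime_two S (hc.normalizer_le_centralizer
      ((Nat.minFac_eq_two_iff _).mpr (h.orderOf_eq ▸ orderOf_dvd_natCard t)))
    refine Or.inl fun x => ?_
    have := (hK _).mpr (hodd x)
    rw [hO K nK ((piGrp_compl_singleton_iff Nat.prime_two).mpr oK), Subgroup.mem_bot] at this
    rw [eq_inv_of_mul_eq_one_right this, ti]
  right
  have tc : (c : G) ^ 2 ^ m = t := uS (c ^ 2 ^ m)
    (by rw [← pow_add, ← two_mul, ← pow_succ', ← ho, pow_orderOf_eq_one]) fun e => by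
      have := Nat.le_of_dvd (by positivity) (ho ▸ orderOf_dvd_of_pow_eq_one e)
      rw [pow_succ] at this
      have : 0 < 2 ^ m := by positivity
      omega
  have h3 : (y : G)⁻¹ * c * (y : G)⁻¹⁻¹ = (c : G)⁻¹ := by
    rw [inv_inv, mul_assoc, show (c : G) * y = y * (c : G)⁻¹ from congrArg Subtype.val h1, inv_mul_cancel_left]
  obtain ⟨m, rfl⟩ := Nat.exists_eq_add_of_le' hm
  rcases m with _ | m
  swap
  · refine BS_big (u := (c : G) ^ 2 ^ (m + 1)) (c := c) (y := (y : G)⁻¹) h hodd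
      (by rw [← pow_add, ← two_mul, ← pow_succ', tc]) ((Commute.refl (c : G)).pow_right _).eq ?_ h3
      (by rw [← conj_pow, h3, inv_pow])
    rw [orderOf_pow_of_dvd (by norm_num) (by rw [Subgroup.orderOf_coe, ho]; exact Dvd.intro (2 ^ (m + 1)) (by ring)),
      Subgroup.orderOf_coe, ho, show 2 ^ (m + 1 + 1 + 1) = 4 * (2 * 2 ^ m) by ring,
      Nat.mul_div_cancel_left _ (by norm_num)]
    exact Dvd.intro _ rfl
  have cc : (c : G) * c = t := by simpa [pow_two] using tc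
  have S8 : Nat.card S = 8 := by rw [CA.TG.card_of_index_two hy gen, ho]; rfl
  have x4 : ∀ x ∈ (S : Subgroup G), x ^ 4 = 1 := fun x hx => by
    have c4 : c ^ 4 = 1 := orderOf_dvd_iff_pow_eq_one.mp ho.dvd
    have : (⟨x, hx⟩ : S) ^ 4 = 1 := by
      rcases gen ⟨x, hx⟩ with ⟨n, e⟩ | ⟨n, e⟩
      · rw [← e, ← zpow_natCast, ← zpow_mul, mul_comm, zpow_mul, zpow_natCast, c4, one_zpow]
      · rw [show (⟨x, hx⟩ : S) = y * c ^ n from (eq_inv_mul_iff_mul_eq.mp e).symm, show 4 = 2 * 2 from rfl, pow_mul,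
          pow_two (y * c ^ n)]
        have : y⁻¹ * c ^ n * y⁻¹⁻¹ = (c ^ n)⁻¹ := by
          rw [← conj_zpow, inv_inv, mul_assoc, h1, inv_mul_cancel_left, inv_zpow]
        rw [show y * c ^ n * (y * c ^ n) = y * y * (y⁻¹ * c ^ n * y⁻¹⁻¹) * c ^ n by group, this, h2,
          inv_mul_cancel_right, ← pow_mul]
        exact c4
    exact congrArg Subtype.val this
  have h4 : ∀ x ∈ (S : Subgroup G), x = 1 ∨ x = t ∨ x * x = t := fun x hx => by
    rcases h.uq (x * x) (by rw [← x4 x hx]; simp [pow_succ, mul_assoc]) (cS _ (mul_mem hx hx)) with e | e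
    · rcases h.uq x e (cS x hx) with e | e <;> simp [e]
    · simp [e]
  have hp : commutator G = ⊤ := by
    rw [eq_top_iff, ← hN]
    refine Subgroup.normalClosure_le_normal (Set.singleton_subset_iff.mpr ?_)
    have : t = ⁅(c : G), (y : G)⁻¹⁆ := by
      rw [← cc, commutatorElement_def]
      calc (c : G) * c = c * ((y : G)⁻¹ * c * (y : G)⁻¹⁻¹)⁻¹ := by rw [h3, inv_inv]
      _ = _ := by group
    rw [this]
    exact Subgroup.commutator_mem_commutator (Subgroup.mem_top _) (Subgroup.mem_top _)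
  have conjS : ∀ w : G, ∀ k, orderOf w = 2 ^ k → ∃ a, a⁻¹ * w * a⁻¹⁻¹ ∈ (S : Subgroup G) := fun w k hw => by
    obtain ⟨a, ha⟩ := CA.Fi.exists_conj_le_sylow S (CA.Fi.isPGroup_zpowers_of_orderOf hw)
    exact ⟨a, by simpa using ha w (Subgroup.mem_zpowers w)⟩
  have mC : ∀ {g}, Commute t g → g ∈ Subgroup.centralizer ({t} : Set G) := fun h =>
    Subgroup.mem_centralizer_singleton_iff.mpr h.eq.symm
  have mC' : ∀ g : Subgroup.centralizer ({t} : Set G), t * g = g * t := fun g =>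
    (Subgroup.mem_centralizer_singleton_iff.mp g.2).symm
  refine BS_Q8 hodd rfl (t' := ⟨t, mC (Commute.refl t)⟩) (u := ⟨c, mC (cS c c.2)⟩) rfl
    ⟨⟨Subtype.ext h.tt, fun e => h.ne (congrArg Subtype.val e), fun s h1 _ => ?_⟩, fun g => Subtype.ext (mC' g),
      Subtype.ext cc, fun g d => ?_, fun d => ?_, fun w hw => ?_⟩
  · rcases h.uq s (congrArg Subtype.val h1) (mC' s) with e | e
    · exact Or.inl (Subtype.ext e)
    · exact Or.inr (Subtype.ext e)
  · rw [← Subgroup.orderOf_coe] at d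
    have o := orderOf_pow_orderOf_div (orderOf_pos _).ne' d
    obtain ⟨a, ha⟩ := conjS _ 3 o
    have := orderOf_dvd_of_pow_eq_one (x4 _ ha)
    rw [CA.Fi.orderOf_cj, o] at this
    omega
  · have := S.pow_dvd_card_of_pow_dvd_card (n := 4) (d.trans (Subgroup.card_subgroup_dvd_card _))
    rw [S8] at this
    omega
  · have hw' : (w : G) * w = t := congrArg Subtype.val hw
    obtain ⟨a, ha⟩ := conjS w 2 (h.orderOf_four hw')
    have e : a⁻¹ * w * a⁻¹⁻¹ * (a⁻¹ * w * a⁻¹⁻¹) = t := by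
      have o := (CA.Fi.orderOf_cj a⁻¹ (w : G)).trans (h.orderOf_four hw')
      rcases h4 _ ha with e | e | e
      · simp [-inv_inv, e] at o
      · rw [e, h.orderOf_eq] at o; omega
      · exact e
    obtain ⟨g, hg⟩ := isConj_iff.mp ((fuse_four h S S8 h4 hp c.2 ha cc e).trans (isConj_iff.mpr ⟨a⁻¹, rfl⟩).symm)
    refine isConj_iff.mpr ⟨⟨g, Subgroup.mem_centralizer_singleton_iff.mpr ?_⟩, Subtype.ext hg⟩
    rw [← mul_inv_eq_iff_eq_mul]
    nth_rewrite 1 [← cc]
    rw [← conj_mul, hg, hw']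

/-- the conclusion of the Z*-theorem -/
def Zs (t : G) : Prop := ∃ K : Subgroup G, K.Normal ∧ IsPiGrp {2}ᶜ K ∧ ∀ g, g * t * g⁻¹ * t⁻¹ ∈ K

theorem Zs_of_central {t : G} (h : ∀ x, x * t * x⁻¹ = t) : Zs t :=
  ⟨⊥, inferInstance, piGrp_bot _, fun g => by simp [h g]⟩

theorem B0_iso [Fintype G] {t s : G} (tt : t * t = 1) (hiso : ∀ g : G, Commute t (g * t * g⁻¹) → g * t * g⁻¹ = t)
    (ih : ∀ z : G, z * z = 1 → z ≠ 1 → ∀ h : t ∈ Subgroup.centralizer {z},
      Zs (⟨t, h⟩ : Subgroup.centralizer ({z} : Set G)))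
    (ss : s * s = 1) (hst : s ≠ t) (c : Commute t s) {χ : G → ℂ} (hχ : χ ∈ B0 2 G) :
    χ 1 * χ (t * s) = χ t * χ s := by
  have key : ∀ x, χ (t * (x * s * x⁻¹)) = χ (t * s) := fun x => by
    have ss' : x * s * x⁻¹ * (x * s * x⁻¹) = 1 := by rw [conj_mul, ss]; simp
    have cs : IsConj s (x * s * x⁻¹) := isConj_iff.mpr ⟨x, rfl⟩
    generalize x * s * x⁻¹ = r at ss' cs
    have niso : ∀ y, Commute t y → IsConj t y → y = t := fun y c h => by
      obtain ⟨g, rfl⟩ := isConj_iff.mp h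
      exact hiso g c
    obtain ⟨m, hm⟩ := CA.Fi.dih_even_of_not_isConj tt ss' fun h => hst (niso s c (h.trans cs.symm))
    have zz : (t * r) ^ m * (t * r) ^ m = 1 := by rw [← pow_add, ← hm, pow_orderOf_eq_one]
    have z1 : (t * r) ^ m ≠ 1 := fun e => by
      have := orderOf_pos (t * r)
      have := Nat.le_of_dvd (by omega) (orderOf_dvd_of_pow_eq_one e)
      omega
    have cz := (CA.Fi.dih_commute tt ss' zz).1
    have nt : ¬ IsConj t (t * (t * r) ^ m) := fun h =>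
      z1 (mul_eq_left.mp (niso _ ((Commute.refl t).mul_right cz) h))
    obtain ⟨j, rfl⟩ : Odd m := Nat.not_even_iff_odd.mp fun ⟨j, hj⟩ =>
      nt (isConj_iff.mpr ⟨_, by rw [hj, ← two_mul]; exact CA.Fi.dih_even tt ss' j⟩)
    obtain ⟨a, ha⟩ := isConj_iff.mp (cs.trans ((CA.Fi.dih_isConj_or tt ss' _).resolve_left nt))
    have e1 : χ ((t * r) ^ (2 * j + 1)) = χ (t * s) := by
      have aa : a * t * a⁻¹ * (a * t * a⁻¹) = 1 := by rw [conj_mul, tt]; simp
      obtain ⟨k, hk⟩ := CA.Fi.dih_conj_of_odd tt aa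
        (Nat.not_even_iff_odd.mp (even_iff_two_dvd.not.mpr (odd_of_iso tt hiso a))) (pow_orderOf_eq_one _)
      have c1 : Commute t (a * s * a⁻¹) := ha ▸ (Commute.refl t).mul_right cz
      have c2 : Commute (a * t * a⁻¹) (a * s * a⁻¹) := c.conj a
      have c3 := ((c1.mul_left c2).pow_left k).inv_left
      generalize ((t * (a * t * a⁻¹)) ^ k)⁻¹ = b at hk c3
      rw [← CF_conj (IsIrr.mem_CF (B0_irr hχ)) (t * s) (b * a)]
      congr 1
      calc _ = t * (a * s * a⁻¹) := by rw [ha, ← mul_assoc, tt, one_mul]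
      _ = b * (a * t * a⁻¹) * b⁻¹ * (b * (a * s * a⁻¹) * b⁻¹) := by rw [hk, c3.eq, mul_inv_cancel_right]
      _ = _ := by group
    generalize hz : (t * r) ^ (2 * j + 1) = z at zz z1 cz e1
    have mt : t ∈ Subgroup.centralizer ({z} : Set G) := Subgroup.mem_centralizer_singleton_iff.mpr cz.eq
    obtain ⟨K, nK, oK, hK⟩ := ih z zz z1 mt
    let y : Subgroup.centralizer ({z} : Set G) := ⟨(t * r) ^ (2 * j + 2),
      Subgroup.mem_centralizer_singleton_iff.mpr (hz ▸ ((Commute.refl (t * r)).pow_pow _ _).eq)⟩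
    have y2 : y * y ∈ K := by
      convert hK y using 1
      refine Subtype.ext ?_
      have := CA.Fi.dih_conj_pow tt ss' (2 * j + 2)
      simp only [y, Subgroup.coe_mul, Subgroup.coe_inv]
      generalize (t * r) ^ (2 * j + 2) = Y at this ⊢
      calc Y * Y = Y * (t * Y⁻¹⁻¹⁻¹ * t⁻¹) := by
            rw [inv_inv, ← conj_inv, this, inv_inv]
      _ = _ := by group
    have hy : y ∈ K := by
      convert pow_mem y2 (j + 1) using 1
      refine Subtype.ext ?_
      simp only [y, Subgroup.coe_mul, Subgroup.coe_pow]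
      rw [← pow_add, ← pow_mul, show (2 * j + 2 + (2 * j + 2)) * (j + 1) =
        (2 * j + 1 + (2 * j + 1)) * (j + 1) + (2 * j + 2) by ring, ← hm, pow_add _ (orderOf _ * _), pow_mul,
        pow_orderOf_eq_one, one_pow, one_mul]
    have := B0_mul_core (k := 1) Nat.prime_two (by rw [pow_one, pow_two, zz])
      ((piGrp_compl_singleton_iff Nat.prime_two).mp oK) hy hχ
    rw [← e1, ← this]
    simp only [y]
    rw [pow_succ _ (2 * j + 1), hz, ← mul_assoc, zz, one_mul]
  have := IsIrr.sum_conj_mul (B0_irr hχ) t s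
  simp only [key, Finset.sum_const, Finset.card_univ, nsmul_eq_mul, ← Nat.card_eq_fintype_card] at this
  exact mul_left_cancel₀ card_ne_zero (by rw [← this]; ring)

theorem Zs_aux (n : ℕ) : ∀ (G : Type u) [Group G] [Finite G], Nat.card G = n → ∀ t : G, t * t = 1 →
    (∀ g : G, Commute t (g * t * g⁻¹) → g * t * g⁻¹ = t) → Zs t := by
  induction n using Nat.strong_induction_on with
  | _ n ih =>
  intro G _ _ hn t tt hiso
  have ti : t⁻¹ = t := inv_eq_of_mul_eq_one_right tt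
  have hodd := odd_of_iso tt hiso
  have ihs : ∀ (C : Subgroup G), C ≠ ⊤ → ∀ h : t ∈ C, Zs (⟨t, h⟩ : C) := fun C hC h =>
    ih _ (by rw [← hn, ← Subgroup.card_top (G := G)]; exact card_lt_of_lt hC.lt_top) C rfl _ (Subtype.ext tt)
      fun g c => Subtype.ext (hiso g (congrArg Subtype.val c.eq))
  have ihq : ∀ (N : Subgroup G) [N.Normal], N ≠ ⊥ → ∃ K : Subgroup (G ⧸ N), K.Normal ∧ IsPiGrp {2}ᶜ K ∧
      ∀ g, g * t * g⁻¹ * t⁻¹ ∈ K.comap (QuotientGroup.mk' N) := fun N _ hN => by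
    obtain ⟨K, h1, h2, h3⟩ := ih _ (by
      rw [← hn, N.card_eq_card_quotient_mul_card_subgroup]
      exact lt_mul_right Nat.card_pos ((Subgroup.one_lt_card_iff_ne_bot N).mpr hN)) (G ⧸ N) rfl
      (QuotientGroup.mk' N t) (by rw [← map_mul, tt, map_one])
      (iso_map _ (QuotientGroup.mk'_surjective N) tt hiso)
    exact ⟨K, h1, h2, fun g => by simpa using h3 (QuotientGroup.mk' N g)⟩
  by_cases hO : ∀ K : Subgroup G, K.Normal → IsPiGrp {2}ᶜ K → K = ⊥
  swap
  · push Not at hO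
    obtain ⟨N, nN, oN, hN⟩ := hO
    obtain ⟨K, h1, h2, h3⟩ := ihq N hN
    exact ⟨_, inferInstance, h2.comap (by rwa [QuotientGroup.ker_mk']), h3⟩
  refine Zs_of_central ?_
  by_contra hc
  have hN : Subgroup.normalClosure ({t} : Set G) = ⊤ := by
    by_contra hN
    have mt : t ∈ Subgroup.normalClosure ({t} : Set G) := Subgroup.subset_normalClosure rfl
    obtain ⟨K, nK, oK, hK⟩ := ihs _ hN mt
    have h1 := hO _ (normalIn_top.mp ((normalIn_top.mpr (Subgroup.normalClosure_normal (s := {t}))).pcore {2}ᶜ))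
      (pcore_piGrp _ _)
    refine hc fun g => hiso g ?_
    have h2 : K ≤ pPrimeCore 2 _ := by
      rw [pPrimeCore_eq_top Nat.prime_two]; exact pcore_max (normalIn_top.mpr nK) oK
    have h3 := Subgroup.mem_map_of_mem (Subgroup.subtype _)
      (h2 (hK ⟨g * t * g⁻¹, Subgroup.normalClosure_normal.conj_mem t mt g⟩))
    rw [pPrimeCore_map_subtype Nat.prime_two, pPrimeCoreOf, h1, Subgroup.mem_bot] at h3
    exact (commutatorElement_eq_one_iff_commute.mp h3).symm
  have hZ : ∀ z : G, z * z = 1 → z ≠ 1 → Subgroup.centralizer ({z} : Set G) ≠ ⊤ := fun z zz z1 e => by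
    have cz : ∀ g, g * z = z * g := fun g => Subgroup.mem_centralizer_singleton_iff.mp (e.ge (Subgroup.mem_top g))
    haveI : (Subgroup.zpowers z).Normal := ⟨by
      rintro _ ⟨n, rfl⟩ g
      simp only
      rw [((show Commute g z from cz g).zpow_right n).eq, mul_inv_cancel_right]
      exact ⟨n, rfl⟩⟩
    obtain ⟨K, h1, h2, h3⟩ := ihq (Subgroup.zpowers z) (by simpa using z1)
    obtain ⟨P⟩ : Nonempty (Sylow 2 (K.comap (QuotientGroup.mk' (Subgroup.zpowers z)))) := inferInstance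
    obtain ⟨L, -, h4, -, h5⟩ := exists_npc Nat.prime_two P fun g _ x hx => by
      obtain ⟨k, hk⟩ := P.2 ⟨x, hx⟩
      have := eq_one_of_odd (g := QuotientGroup.mk' (Subgroup.zpowers z) x) (k := k)
        ((piNat_compl_singleton_iff Nat.prime_two).mp (h2.piElt x.2))
        (by rw [← map_pow, show (x : G) ^ 2 ^ k = 1 from congrArg Subtype.val (congrArg Subtype.val hk), map_one])
      obtain ⟨n, hn⟩ := (QuotientGroup.eq_one_iff _).mp this
      exact Subtype.ext (by
        rw [Subgroup.coe_mul, Subgroup.coe_mul, ← hn]; exact ((show Commute (g : G) z from cz g).zpow_right n).eq.symm)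
    have h6 := hO (L.map (Subgroup.subtype _)) ⟨by
      rintro _ ⟨y, hy, rfl⟩ g
      refine ⟨⟨_, (inferInstance : (K.comap _).Normal).conj_mem _ y.2 g⟩, (h5 _).mpr ?_, rfl⟩
      rw [Subgroup.orderOf_mk, CA.Fi.orderOf_cj, Subgroup.orderOf_coe]
      exact (h5 y).mp hy⟩ (((piGrp_compl_singleton_iff Nat.prime_two).mpr h4).map _)
    refine hc fun g => ?_
    have h7 := Subgroup.mem_map_of_mem (Subgroup.subtype _) ((h5 ⟨_, h3 g⟩).mpr (by
      rw [Subgroup.orderOf_mk, ti, ← CA.Fi.orderOf_cj t, ← mul_assoc, mul_inv_cancel_right]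
      exact hodd g))
    rw [h6, Subgroup.mem_bot] at h7
    exact mul_inv_eq_one.mp h7
  have hker : ∀ χ, IsIrrCharacter G χ → χ ≠ 1 → t ∉ cfker χ := fun χ hχ h1 h => by
    haveI := cfker_normal (IsIrr.mem_CF hχ)
    exact IsIrr.cfker_ne_top hχ h1 (top_le_iff.mp (hN ▸ Subgroup.normalClosure_le_normal (by simpa using h)))
  have t1 : t ≠ 1 := fun e => hc (by simp [e])
  by_cases hu : ∀ s, s * s = 1 → Commute t s → s = 1 ∨ s = t
  · rcases BS_core ⟨tt, t1, hu⟩ hodd hN hO with h | ⟨χ, h1, h2, h3⟩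
    · exact hc h
    · exact hker χ h1 h2 h3
  push Not at hu
  obtain ⟨s, ss, c, s1, st⟩ := hu
  cases nonempty_fintype G
  have o1 := B0_orth (G := G) Nat.prime_two (g := s) (h := 1) (sep_of_orderOf (k := 1) Nat.prime_two
    (orderOf_eq_prime (p := 2) (by rw [pow_two, ss]) s1).symm.dvd (by simp))
  have o2 := B0_orth (G := G) Nat.prime_two (g := s) (h := t) fun i hi h => by
    obtain ⟨j, rfl⟩ : Odd i := Nat.not_even_iff_odd.mp (even_iff_two_dvd.not.mpr hi)
    rw [pow_succ, pow_succ, pow_mul, pow_mul, pow_two, pow_two, ss, tt, one_pow, one_mul, one_mul] at h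
    obtain ⟨g, rfl⟩ := isConj_iff.mp h.symm
    exact st (hiso g c)
  have := congrArg₂ (· + ·) o1 o2
  rw [← Finset.sum_add_distrib, Finset.sum_eq_single 1 (fun χ hχ h1 => ?_)
    (fun h => absurd (one_mem_B0 Nat.prime_two) h)] at this
  · norm_num at this
  have e1 := B0_iso tt hiso (fun z zz z1 => ihs _ (hZ z zz z1)) ss st c hχ
  have e2 := B0_iso tt hiso (fun z zz z1 => ihs _ (hZ z zz z1)) (s := t * s)
    (by rw [c.symm.mul_mul_mul_comm, ss, tt, mul_one]) (by simpa using s1) ((Commute.refl t).mul_right c) hχ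
  rw [← mul_assoc, tt, one_mul] at e2
  have h2 := IsIrr.isChar (B0_irr hχ)
  rw [IsChar.conj_one h2, ← IsChar.apply_inv h2, ti]
  refine mul_left_cancel₀ (sub_ne_zero.mpr fun e => hker χ (B0_irr hχ) h1 ((IsChar.mem_cfker h2).mpr e)) ?_
  linear_combination -χ t * e1 - χ 1 * e2

theorem Zstar_main {t : G} (tt : t * t = 1)
    (hiso : ∀ g : G, Commute t (g * t * g⁻¹) → g * t * g⁻¹ = t) (g : G) :
    g * t * g⁻¹ * t⁻¹ ∈ pPrimeCore 2 G := by
  obtain ⟨K, h1, h2, h3⟩ := Zs_aux _ G rfl t tt hiso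
  rw [pPrimeCore_eq_top Nat.prime_two]
  exact pcore_max (normalIn_top.mpr h1) h2 (h3 g)

end CA.Blk
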